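import Mathlib

/-!
# Commutators of determinant one: splitting into two classes

A square matrix `A` splits along `B` when `A = L * U` with `L` similar to `B` and `U` similar to
the inverse of `B`. If moreover `B` has determinant one and its centralizer has surjective
determinant, then `A` is a commutator of two matrices of determinant one.
-/

set_option autoImplicit false

namespace Cfsg.Agent.Classical.Thompson

open Matrix

variable {F : Type*} [Field F] {ι κ : Type*} [Fintype ι] [DecidableEq ι] [Fintype κ] [DecidableEq κ]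

/-- similarity -/
def Sim (M N : Matrix ι ι F) : Prop := ∃ P Q : Matrix ι ι F, P * Q = 1 ∧ M = P * N * Q

theorem Sim.refl (M : Matrix ι ι F) : Sim M M := ⟨1, 1, by simp, by simp⟩

theorem Sim.symm {M N : Matrix ι ι F} (h : Sim M N) : Sim N M := by
  obtain ⟨P, Q, hPQ, rfl⟩ := h
  have hQP : Q * P = 1 := mul_eq_one_comm.1 hPQ
  exact ⟨Q, P, hQP, by simp only [← Matrix.mul_assoc, hQP, Matrix.one_mul]; rw [Matrix.mul_assoc, hQP, Matrix.mul_one]⟩

theorem Sim.trans {M N K : Matrix ι ι F} (h : Sim M N) (h' : Sim N K) : Sim M K := by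
  obtain ⟨P, Q, hPQ, rfl⟩ := h
  obtain ⟨P', Q', hPQ', rfl⟩ := h'
  refine ⟨P * P', Q' * Q, ?_, by simp only [Matrix.mul_assoc]⟩
  rw [Matrix.mul_assoc, ← Matrix.mul_assoc P', hPQ', Matrix.one_mul, hPQ]

theorem Sim.det_eq {M N : Matrix ι ι F} (h : Sim M N) : M.det = N.det := by
  obtain ⟨P, Q, hPQ, rfl⟩ := h
  rw [det_mul, det_mul, mul_comm P.det, mul_assoc, ← det_mul, hPQ, det_one, mul_one]

theorem Sim.mul {M N M' N' : Matrix ι ι F} (P Q : Matrix ι ι F) (hPQ : P * Q = 1)
    (h : M = P * N * Q) (h' : M' = P * N' * Q) : M * M' = P * (N * N') * Q := by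
  have hQP : Q * P = 1 := mul_eq_one_comm.1 hPQ
  rw [h, h']
  simp only [Matrix.mul_assoc]
  rw [← Matrix.mul_assoc Q, hQP, Matrix.one_mul]

theorem Sim.reindex {M N : Matrix ι ι F} (h : Sim M N) (e : ι ≃ κ) :
    Sim (M.reindex e e) (N.reindex e e) := by
  obtain ⟨P, Q, hPQ, rfl⟩ := h
  refine ⟨P.reindex e e, Q.reindex e e, ?_, ?_⟩
  · simp [submatrix_mul_equiv, hPQ]
  · simp [submatrix_mul_equiv]

theorem Sim.fromBlocks {M N : Matrix ι ι F} {M' N' : Matrix κ κ F} (h : Sim M N) (h' : Sim M' N') :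
    Sim (Matrix.fromBlocks M 0 0 M') (Matrix.fromBlocks N 0 0 N') := by
  obtain ⟨P, Q, hPQ, rfl⟩ := h
  obtain ⟨P', Q', hPQ', rfl⟩ := h'
  exact ⟨.fromBlocks P 0 0 P', .fromBlocks Q 0 0 Q', by simp [fromBlocks_multiply, hPQ, hPQ'],
    by simp [fromBlocks_multiply]⟩

/-- `S = L * U` with `L` similar to `B`, `U` similar to its inverse -/
def Splits (S B : Matrix ι ι F) : Prop :=
  ∃ L U B' : Matrix ι ι F, B * B' = 1 ∧ Sim L B ∧ Sim U B' ∧ S = L * U

theorem Splits.sim {S S' B : Matrix ι ι F} (h : Splits S B) (hs : Sim S' S) : Splits S' B := by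
  obtain ⟨L, U, B', hB, hL, hU, rfl⟩ := h
  obtain ⟨P, Q, hPQ, rfl⟩ := hs
  exact ⟨P * L * Q, P * U * Q, B', hB, Sim.trans ⟨P, Q, hPQ, rfl⟩ hL,
    Sim.trans ⟨P, Q, hPQ, rfl⟩ hU, (Sim.mul P Q hPQ rfl rfl).symm⟩

theorem Splits.right {S B C : Matrix ι ι F} (h : Splits S B) (hs : Sim B C) : Splits S C := by
  obtain ⟨L, U, B', hB, hL, hU, rfl⟩ := h
  obtain ⟨P, Q, hPQ, hC⟩ := hs.symm
  refine ⟨L, U, P * B' * Q, ?_, hL.trans hs, hU.trans (Sim.symm ⟨P, Q, hPQ, rfl⟩), rfl⟩
  rw [Sim.mul P Q hPQ hC rfl, hB, Matrix.mul_one, hPQ]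

theorem Splits.reindex {S B : Matrix ι ι F} (h : Splits S B) (e : ι ≃ κ) :
    Splits (S.reindex e e) (B.reindex e e) := by
  obtain ⟨L, U, B', hB, hL, hU, rfl⟩ := h
  refine ⟨L.reindex e e, U.reindex e e, B'.reindex e e, ?_, hL.reindex e, hU.reindex e, ?_⟩
  · simp [submatrix_mul_equiv, hB]
  · simp [submatrix_mul_equiv]

/-- `A` is a commutator of two matrices of determinant one -/
def IsComm (A : Matrix ι ι F) : Prop :=
  ∃ a b : Matrix ι ι F, a.det = 1 ∧ b.det = 1 ∧ A * (b * a) = a * b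

theorem IsComm.sim {A A' : Matrix ι ι F} (h : IsComm A) (hs : Sim A' A) : IsComm A' := by
  obtain ⟨a, b, ha, hb, hab⟩ := h
  obtain ⟨P, Q, hPQ, rfl⟩ := hs
  have hd : ∀ M : Matrix ι ι F, (P * M * Q).det = M.det := fun M => Sim.det_eq ⟨P, Q, hPQ, rfl⟩
  refine ⟨P * a * Q, P * b * Q, (hd a).trans ha, (hd b).trans hb, ?_⟩
  rw [Sim.mul P Q hPQ rfl (Sim.mul P Q hPQ rfl rfl), hab, Sim.mul P Q hPQ rfl rfl]

theorem IsComm.reindex {A : Matrix ι ι F} (h : IsComm A) (e : ι ≃ κ) : IsComm (A.reindex e e) := by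
  obtain ⟨a, b, ha, hb, hab⟩ := h
  refine ⟨a.reindex e e, b.reindex e e, by rw [det_reindex_self, ha], by rw [det_reindex_self, hb], ?_⟩
  simp [submatrix_mul_equiv, hab]

/-- determinant one and surjective determinant on the centralizer -/
def Good (B : Matrix ι ι F) : Prop :=
  B.det = 1 ∧ ∀ t : F, t ≠ 0 → ∃ Z : Matrix ι ι F, Z.det = t ∧ Z * B = B * Z

theorem Good.sim {B C : Matrix ι ι F} (h : Good B) (hs : Sim C B) : Good C := by
  obtain ⟨h1, h2⟩ := h
  refine ⟨hs.det_eq.trans h1, fun t ht => ?_⟩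
  obtain ⟨Z, hZ, hZB⟩ := h2 t ht
  obtain ⟨P, Q, hPQ, rfl⟩ := hs
  refine ⟨P * Z * Q, (Sim.det_eq ⟨P, Q, hPQ, rfl⟩).trans hZ, ?_⟩
  rw [Sim.mul P Q hPQ rfl rfl, Sim.mul P Q hPQ rfl rfl, hZB]

theorem isComm_of_splits {A B : Matrix ι ι F} (h : Splits A B) (hB : Good B) : IsComm A := by
  obtain ⟨L, U, B', hBB, ⟨X, X', hX, rfl⟩, ⟨Y, Y', hY, rfl⟩, rfl⟩ := h
  obtain ⟨hB1, hB2⟩ := hB
  have fix : ∀ W W' : Matrix ι ι F, W * W' = 1 →
      ∃ V V' : Matrix ι ι F, V * V' = 1 ∧ V.det = 1 ∧ V * B * V' = W * B * W' ∧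
        V * B' * V' = W * B' * W' := by
    intro W W' hW
    have hWd : W.det ≠ 0 := fun h0 => by
      have := congrArg Matrix.det hW; rw [det_mul, h0, zero_mul, det_one] at this; exact zero_ne_one this
    obtain ⟨Z, hZ, hZB⟩ := hB2 W.det⁻¹ (inv_ne_zero hWd)
    have hZd : IsUnit Z.det := by rw [hZ]; exact (isUnit_iff_ne_zero.2 (inv_ne_zero hWd))
    have hB'B : B' * B = 1 := mul_eq_one_comm.1 hBB
    have hZB' : Z * B' = B' * Z := by
      calc Z * B' = B' * B * Z * B' := by rw [hB'B, Matrix.one_mul]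
        _ = B' * (Z * B) * B' := by rw [hZB]; simp only [Matrix.mul_assoc]
        _ = B' * Z * (B * B') := by simp only [Matrix.mul_assoc]
        _ = B' * Z := by rw [hBB, Matrix.mul_one]
    have key : ∀ M : Matrix ι ι F, Z * M = M * Z → W * Z * M * (Z⁻¹ * W') = W * M * W' := by
      intro M hM
      calc W * Z * M * (Z⁻¹ * W') = W * (Z * M) * (Z⁻¹ * W') := by simp only [Matrix.mul_assoc]
        _ = W * M * (Z * Z⁻¹) * W' := by rw [hM]; simp only [Matrix.mul_assoc]
        _ = _ := by rw [Matrix.mul_nonsing_inv _ hZd, Matrix.mul_one]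
    refine ⟨W * Z, Z⁻¹ * W', ?_, by rw [det_mul, hZ, mul_inv_cancel₀ hWd], key B hZB, key B' hZB'⟩
    calc W * Z * (Z⁻¹ * W') = W * (Z * Z⁻¹) * W' := by simp only [Matrix.mul_assoc]
      _ = 1 := by rw [Matrix.mul_nonsing_inv _ hZd, Matrix.mul_one, hW]
  obtain ⟨V, V', hV, hVd, hVB, -⟩ := fix X X' hX
  obtain ⟨T, T', hT, hTd, -, hTB'⟩ := fix Y Y' hY
  rw [← hVB, ← hTB']
  have hT'd : T'.det = 1 := by
    have := congrArg Matrix.det hT; rwa [det_mul, hTd, one_mul, det_one] at this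
  refine ⟨V * T', T * B * T', by rw [det_mul, hVd, hT'd, one_mul],
    by rw [det_mul, det_mul, hTd, hB1, hT'd, one_mul, one_mul], ?_⟩
  have hT'T : T' * T = 1 := mul_eq_one_comm.1 hT
  have hV'V : V' * V = 1 := mul_eq_one_comm.1 hV
  have hB'B : B' * B = 1 := mul_eq_one_comm.1 hBB
  calc V * B * V' * (T * B' * T') * (T * B * T' * (V * T'))
      = V * B * V' * T * B' * (T' * T) * B * T' * V * T' := by simp only [Matrix.mul_assoc]
    _ = V * B * V' * T * (B' * B) * T' * V * T' := by rw [hT'T, Matrix.mul_one]; simp only [Matrix.mul_assoc]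
    _ = V * B * V' * (T * T') * V * T' := by rw [hB'B, Matrix.mul_one]; simp only [Matrix.mul_assoc]
    _ = V * B * (V' * V) * T' := by rw [hT, Matrix.mul_one]; simp only [Matrix.mul_assoc]
    _ = V * T' * (T * B * T') := by
      rw [hV'V, Matrix.mul_one, show V * T' * (T * B * T') = V * (T' * T) * B * T' by
        simp only [Matrix.mul_assoc], hT'T, Matrix.mul_one]

/-- no intertwiner in either direction -/
def Disj (P : Matrix ι ι F) (B : Matrix κ κ F) : Prop :=
  (∀ X : Matrix κ ι F, B * X = X * P → X = 0) ∧ ∀ X : Matrix ι κ F, P * X = X * B → X = 0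

theorem Disj.sim {P P' : Matrix ι ι F} {B B' : Matrix κ κ F} (h : Disj P B) (hP : Sim P' P)
    (hB : Sim B' B) : Disj P' B' := by
  obtain ⟨S, S', hS, rfl⟩ := hP
  obtain ⟨T, T', hT, rfl⟩ := hB
  have hS' : S' * S = 1 := mul_eq_one_comm.1 hS
  have hT' : T' * T = 1 := mul_eq_one_comm.1 hT
  refine ⟨fun X hX => ?_, fun X hX => ?_⟩
  · have h1 : T' * X * S = 0 := h.1 _ (by
      calc B * (T' * X * S) = T' * (T * B * T' * X) * S := by
            rw [show T' * (T * B * T' * X) * S = (T' * T) * B * (T' * X * S) by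
              simp only [Matrix.mul_assoc], hT', Matrix.one_mul]
        _ = T' * X * S * P * (S' * S) := by rw [hX]; simp only [Matrix.mul_assoc]
        _ = T' * X * S * P := by rw [hS', Matrix.mul_one])
    calc X = T * (T' * X * S) * S' := by
          rw [show T * (T' * X * S) * S' = (T * T') * X * (S * S') by simp only [Matrix.mul_assoc],
            hT, hS, Matrix.one_mul, Matrix.mul_one]
      _ = 0 := by rw [h1]; simp
  · have h1 : S' * X * T = 0 := h.2 _ (by
      calc P * (S' * X * T) = S' * (S * P * S' * X) * T := by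
            rw [show S' * (S * P * S' * X) * T = (S' * S) * P * (S' * X * T) by
              simp only [Matrix.mul_assoc], hS', Matrix.one_mul]
        _ = S' * X * T * B * (T' * T) := by rw [hX]; simp only [Matrix.mul_assoc]
        _ = S' * X * T * B := by rw [hT', Matrix.mul_one])
    calc X = S * (S' * X * T) * T' := by
          rw [show S * (S' * X * T) * T' = (S * S') * X * (T * T') by simp only [Matrix.mul_assoc],
            hS, hT, Matrix.one_mul, Matrix.mul_one]
      _ = 0 := by rw [h1]; simp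

theorem Disj.inv {P P' : Matrix ι ι F} {B B' : Matrix κ κ F} (h : Disj P B) (hP : P * P' = 1)
    (hB : B * B' = 1) : Disj P' B' := by
  have hP' : P' * P = 1 := mul_eq_one_comm.1 hP
  have hB' : B' * B = 1 := mul_eq_one_comm.1 hB
  refine ⟨fun X hX => h.1 X ?_, fun X hX => h.2 X ?_⟩
  · calc B * X = B * X * (P' * P) := by rw [hP', Matrix.mul_one]
      _ = B * (B' * X) * P := by rw [hX]; simp only [Matrix.mul_assoc]
      _ = X * P := by rw [← Matrix.mul_assoc B, hB, Matrix.one_mul]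
  · calc P * X = P * X * (B' * B) := by rw [hB', Matrix.mul_one]
      _ = P * (P' * X) * B := by rw [hX]; simp only [Matrix.mul_assoc]
      _ = X * B := by rw [← Matrix.mul_assoc P, hP, Matrix.one_mul]

theorem sim_lower {P : Matrix ι ι F} {B : Matrix κ κ F} (h : Disj P B) (C : Matrix κ ι F) :
    Sim (fromBlocks P 0 C B) (fromBlocks P 0 0 B) := by
  let φ : Matrix κ ι F →ₗ[F] Matrix κ ι F :=
    { toFun := fun X => X * P - B * X
      map_add' := fun X Y => by simp only [Matrix.add_mul, Matrix.mul_add]; abel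
      map_smul' := fun c X => by simp [smul_sub] }
  have hinj : Function.Injective φ := (injective_iff_map_eq_zero φ).2 fun X hX =>
    h.1 X (sub_eq_zero.1 hX).symm
  obtain ⟨X, hX⟩ := (LinearMap.injective_iff_surjective.1 hinj) C
  have hC : C = X * P - B * X := hX.symm
  exact ⟨fromBlocks 1 0 X 1, fromBlocks 1 0 (-X) 1, by simp [fromBlocks_multiply],
    by simp [fromBlocks_multiply, hC, sub_eq_add_neg]⟩

theorem sim_upper {P : Matrix ι ι F} {B : Matrix κ κ F} (h : Disj P B) (C : Matrix ι κ F) :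
    Sim (fromBlocks P C 0 B) (fromBlocks P 0 0 B) := by
  let φ : Matrix ι κ F →ₗ[F] Matrix ι κ F :=
    { toFun := fun X => X * B - P * X
      map_add' := fun X Y => by simp only [Matrix.add_mul, Matrix.mul_add]; abel
      map_smul' := fun c X => by simp [smul_sub] }
  have hinj : Function.Injective φ := (injective_iff_map_eq_zero φ).2 fun X hX =>
    h.2 X (sub_eq_zero.1 hX).symm
  obtain ⟨X, hX⟩ := (LinearMap.injective_iff_surjective.1 hinj) C
  have hC : C = X * B - P * X := hX.symm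
  exact ⟨fromBlocks 1 X 0 1, fromBlocks 1 (-X) 0 1, by simp [fromBlocks_multiply],
    by simp [fromBlocks_multiply, hC, sub_eq_add_neg, add_comm]⟩

/-- the block factorisation -/
theorem Splits.blocks {S1 P : Matrix ι ι F} {S B : Matrix κ κ F} (h1 : Splits S1 P)
    (h : Splits S B) (hd : Disj P B) (R : Matrix ι κ F) (C : Matrix κ ι F) :
    Splits (fromBlocks S1 (S1 * R) C (C * R + S)) (fromBlocks P 0 0 B) := by
  obtain ⟨L1, U1, P', hPP, hL1, hU1, rfl⟩ := h1
  obtain ⟨L, U, B', hBB, hL, hU, rfl⟩ := h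
  have hU1d : IsUnit U1.det := by
    rw [hU1.det_eq]
    exact isUnit_iff_ne_zero.2 fun h0 => by
      have := congrArg Matrix.det hPP; rw [det_mul, h0, mul_zero, det_one] at this; exact zero_ne_one this
  refine ⟨fromBlocks L1 0 (C * U1⁻¹) L, fromBlocks U1 (U1 * R) 0 U, fromBlocks P' 0 0 B', ?_,
    (sim_lower (hd.sim hL1 hL) _).trans (hL1.fromBlocks hL),
    (sim_upper ((hd.inv hPP hBB).sim hU1 hU) _).trans (hU1.fromBlocks hU), ?_⟩
  · simp [fromBlocks_multiply, hPP, hBB]
  · rw [fromBlocks_multiply, Matrix.mul_assoc C, Matrix.nonsing_inv_mul _ hU1d]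
    simp only [Matrix.zero_mul, Matrix.mul_zero, add_zero, Matrix.mul_one,
      Matrix.mul_assoc C, ← Matrix.mul_assoc U1⁻¹, Matrix.nonsing_inv_mul _ hU1d, Matrix.one_mul,
      Matrix.mul_assoc L1]

theorem good_fromBlocks {P : Matrix ι ι F} {B : Matrix κ κ F} (hdet : P.det * B.det = 1)
    (hZ : ∀ t : F, t ≠ 0 → ∃ Z : Matrix ι ι F, Z.det = t ∧ Z * P = P * Z) :
    Good (fromBlocks P 0 0 B) := by
  refine ⟨by rw [det_fromBlocks_zero₂₁, hdet], fun t ht => ?_⟩
  obtain ⟨Z, h1, h2⟩ := hZ t ht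
  exact ⟨fromBlocks Z 0 0 1, by rw [det_fromBlocks_zero₂₁, h1, det_one, mul_one],
    by simp [fromBlocks_multiply, h2]⟩

/-- a scalar block against a matrix without that eigenvalue -/
theorem disj_smul {μ : F} {B : Matrix κ κ F} (h : (B - μ • 1).det ≠ 0) :
    Disj (μ • (1 : Matrix ι ι F)) B := by
  have hu : IsUnit (B - μ • 1).det := isUnit_iff_ne_zero.2 h
  refine ⟨fun X hX => ?_, fun X hX => ?_⟩
  · have h0 : (B - μ • 1) * X = 0 := by simp [Matrix.sub_mul, hX]
    calc X = (B - μ • 1)⁻¹ * ((B - μ • 1) * X) := by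
          rw [← Matrix.mul_assoc, Matrix.nonsing_inv_mul _ hu, Matrix.one_mul]
      _ = 0 := by rw [h0, Matrix.mul_zero]
  · have h0 : X * (B - μ • 1) = 0 := by simp [Matrix.mul_sub, ← hX]
    calc X = X * (B - μ • 1) * (B - μ • 1)⁻¹ := by
          rw [Matrix.mul_assoc, Matrix.mul_nonsing_inv _ hu, Matrix.mul_one]
      _ = 0 := by rw [h0, Matrix.zero_mul]

/-- a block without eigenvalue one against a unipotent one -/
theorem disj_unipotent {P : Matrix ι ι F} {B : Matrix κ κ F} (hP : (P - 1).det ≠ 0) {k : ℕ}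
    (hB : (B - 1) ^ k = 0) : Disj P B := by
  have hu : IsUnit (P - 1).det := isUnit_iff_ne_zero.2 hP
  have huk : IsUnit ((P - 1) ^ k).det := by rw [det_pow]; exact hu.pow k
  refine ⟨fun X hX => ?_, fun X hX => ?_⟩
  · have h0 : (B - 1) * X = X * (P - 1) := by simp [Matrix.sub_mul, Matrix.mul_sub, hX]
    have hk : ∀ j : ℕ, (B - 1) ^ j * X = X * (P - 1) ^ j := by
      intro j
      induction j with
      | zero => simp
      | succ j ih =>
        rw [pow_succ, Matrix.mul_assoc, h0, ← Matrix.mul_assoc, ih, Matrix.mul_assoc, ← pow_succ]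
    have h1 := hk k
    rw [hB, Matrix.zero_mul] at h1
    calc X = X * (P - 1) ^ k * ((P - 1) ^ k)⁻¹ := by
          rw [Matrix.mul_assoc, Matrix.mul_nonsing_inv _ huk, Matrix.mul_one]
      _ = 0 := by rw [← h1, Matrix.zero_mul]
  · have h0 : (P - 1) * X = X * (B - 1) := by simp [Matrix.sub_mul, Matrix.mul_sub, hX]
    have hk : ∀ j : ℕ, (P - 1) ^ j * X = X * (B - 1) ^ j := by
      intro j
      induction j with
      | zero => simp
      | succ j ih =>
        rw [pow_succ, Matrix.mul_assoc, h0, ← Matrix.mul_assoc, ih, Matrix.mul_assoc, ← pow_succ]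
    have h1 := hk k
    rw [hB, Matrix.mul_zero] at h1
    calc X = ((P - 1) ^ k)⁻¹ * ((P - 1) ^ k * X) := by
          rw [← Matrix.mul_assoc, Matrix.nonsing_inv_mul _ huk, Matrix.one_mul]
      _ = 0 := by rw [h1, Matrix.mul_zero]

end Cfsg.Agent.Classical.Thompson
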