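import Cfsg.Agent.Lib.Classical.Thompson.Decompose
import Cfsg.Agent.Lib.Classical.RegularUnipotentConj

/-!
# A Hessenberg product of two regular unipotent matrices, and blocks with prescribed top
-/

set_option autoImplicit false

namespace Cfsg.Agent.Classical.Thompson

open Matrix Polynomial Cfsg.Agent.Classical.RegularUnipotentConj

variable {F : Type*} [Field F] {m : ℕ}

/-- lower bidiagonal regular unipotent matrix -/
def jord (F : Type*) [Field F] (m : ℕ) : Matrix (Fin m) (Fin m) F := 1 + (shift F m)ᵀ

theorem jord_sub (m : ℕ) : jord F m - 1 = (shift F m)ᵀ := by simp [jord]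

theorem jord_nil (m : ℕ) : (jord F m - 1) ^ m = 0 := by
  rw [jord_sub, ← transpose_pow, shift_pow_self, transpose_zero]

theorem jord_det (m : ℕ) : (jord F m).det = 1 := by
  rw [det_of_isLowerTriangular]
  · exact Finset.prod_eq_one fun i _ => by simp [jord, shift]
  · intro i j hij
    have h : i.val < j.val := hij
    simp [jord, shift, show i ≠ j from ne_of_lt hij, show ¬ (j.val + 1 = i.val) by omega]

theorem sim_of_regular (N N' : Matrix (Fin m) (Fin m) F) (hn : (N - 1) ^ m = 0)
    (hr : (N - 1).rank = m - 1) (hn' : (N' - 1) ^ m = 0) (hr' : (N' - 1).rank = m - 1) : Sim N' N := by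
  obtain ⟨g, hg⟩ := exists_conj (N - 1) (N' - 1) hn hr hn' hr'
  refine ⟨(g : Matrix (Fin m) (Fin m) F), ((g⁻¹ : GL (Fin m) F) : Matrix (Fin m) (Fin m) F), by simp, ?_⟩
  have h : N' * (g : Matrix (Fin m) (Fin m) F) = (g : Matrix (Fin m) (Fin m) F) * N := by
    rw [Matrix.mul_sub, Matrix.sub_mul, Matrix.mul_one, Matrix.one_mul] at hg
    exact (sub_left_inj.1 hg).symm
  rw [← h, Matrix.mul_assoc]
  simp

theorem jord_rank (m : ℕ) : (jord F m - 1).rank = m - 1 := by
  rw [jord_sub, rank_transpose, rank_shift]

theorem jord_transpose_sim (m : ℕ) : Sim (jord F m)ᵀ (jord F m) := by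
  have h : (jord F m)ᵀ - 1 = shift F m := by simp [jord]
  refine sim_of_regular _ _ (jord_nil m) (jord_rank m) ?_ ?_ <;> rw [h]
  · exact shift_pow_self
  · exact rank_shift

theorem jord_inv_sim (m : ℕ) : Sim (jord F m)⁻¹ (jord F m) := by
  have hu : IsUnit (jord F m).det := by rw [jord_det]; exact isUnit_one
  have hu' : IsUnit (jord F m)⁻¹.det := Matrix.isUnit_nonsing_inv_det _ hu
  have h : (jord F m)⁻¹ - 1 = -(jord F m)⁻¹ * (jord F m - 1) := by
    rw [Matrix.mul_sub, Matrix.neg_mul, Matrix.nonsing_inv_mul _ hu, Matrix.mul_one]; abel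
  refine sim_of_regular _ _ (jord_nil m) (jord_rank m) ?_ ?_ <;> rw [h]
  · have hc : Commute (-(jord F m)⁻¹) (jord F m - 1) := by
      refine Commute.neg_left (Commute.sub_right ?_ (Commute.one_right _))
      exact (Matrix.nonsing_inv_mul _ hu).trans (Matrix.mul_nonsing_inv _ hu).symm
    rw [hc.mul_pow, jord_nil, Matrix.mul_zero]
  · rw [rank_mul_eq_right_of_isUnit_det _ _ ?_, jord_rank]
    rw [det_neg]
    exact ((isUnit_one.neg).pow _).mul hu'

theorem jord_splits {S U : Matrix (Fin m) (Fin m) F} {L : Matrix (Fin m) (Fin m) F}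
    (hL : Sim L (jord F m)) (hU : Sim U (jord F m)) (hS : S = L * U) : Splits S (jord F m) :=
  ⟨L, U, (jord F m)⁻¹, Matrix.mul_nonsing_inv _ (by rw [jord_det]; exact isUnit_one), hL,
    hU.trans (jord_inv_sim m).symm, hS⟩

/-- tridiagonal product of two regular unipotent matrices -/
def tri (F : Type*) [Field F] (m : ℕ) : Matrix (Fin m) (Fin m) F := jord F m * (jord F m)ᵀ

theorem tri_splits (m : ℕ) : Splits (tri F m) (jord F m) :=
  jord_splits (Sim.refl _) (jord_transpose_sim m) rfl

theorem tri_det (m : ℕ) : (tri F m).det = 1 := by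
  rw [tri, det_mul, det_transpose, jord_det, one_mul]

theorem tri_hess (m : ℕ) : IsHess (tri F m) := by
  intro i j
  refine ⟨fun h => ?_, fun h => ?_⟩
  · rw [tri, Matrix.mul_apply]
    refine Finset.sum_eq_zero fun l _ => ?_
    rw [Matrix.transpose_apply]
    simp only [jord, Matrix.add_apply, Matrix.one_apply, Matrix.transpose_apply, shift, Matrix.of_apply,
      Fin.ext_iff]
    split_ifs <;> first | omega | simp
  · rw [tri, Matrix.mul_apply, Finset.sum_eq_single j]
    · simp [jord, shift, h, show i ≠ j from fun e => by subst e; omega, show ¬ i.val = j.val by omega]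
    · intro l _ hl
      rw [Matrix.transpose_apply]
      simp only [jord, Matrix.add_apply, Matrix.one_apply, Matrix.transpose_apply, shift,
        Matrix.of_apply, Fin.ext_iff]
      have : l.val ≠ j.val := fun e => hl (Fin.ext e)
      split_ifs <;> first | omega | simp
    · simp

/-- joining column -/
def link (F : Type*) [Field F] (d m : ℕ) : Matrix (Fin m) (Fin d) F :=
  Matrix.of fun a b => if a.val = 0 ∧ b.val + 1 = d then 1 else 0

theorem exists_block [Finite F] {d : ℕ} (S1 : Matrix (Fin d) (Fin d) F)
    (hd : d = 1 ∨ d = 2 ∧ 1 ≤ m) (hS1 : IsHess S1)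
    (f : F[X]) (hf : f.Monic) (hfd : f.natDegree = d + m)
    (hdet : (compMat f hf hfd).det = S1.det) :
    ∃ R : Matrix (Fin d) (Fin m) F, Sim (compMat f hf hfd)
      ((fromBlocks S1 (S1 * R) (link F d m) (link F d m * R + tri F m)).reindex finSumFinEquiv
        finSumFinEquiv) := by
  classical
  set A := (fromBlocks S1 0 (link F d m) (tri F m)).reindex finSumFinEquiv finSumFinEquiv with hA
  have hh : IsHess A := by
    intro i j
    obtain ⟨x, rfl⟩ := finSumFinEquiv.surjective i
    obtain ⟨y, rfl⟩ := finSumFinEquiv.surjective j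
    rw [hA, Matrix.reindex_apply, Matrix.submatrix_apply, Equiv.symm_apply_apply, Equiv.symm_apply_apply]
    rcases x with a | a <;> rcases y with b | b <;>
      simp only [finSumFinEquiv_apply_left, finSumFinEquiv_apply_right, Fin.val_castAdd, Fin.val_natAdd,
        fromBlocks_apply₁₁, fromBlocks_apply₁₂, fromBlocks_apply₂₁, fromBlocks_apply₂₂]
    · exact hS1 a b
    · exact ⟨fun _ => rfl, fun h => by have := a.2; omega⟩
    · have := b.2
      simp only [link, Matrix.of_apply]
      exact ⟨fun h => if_neg (by omega), fun h => if_pos (by omega)⟩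
    · exact ⟨fun h => (tri_hess m a b).1 (by omega), fun h => (tri_hess m a b).2 (by omega)⟩
  have hAdet : A.det = S1.det := by
    rw [hA, det_reindex_self, det_fromBlocks_zero₁₂, tri_det, mul_one]
  obtain ⟨r, hr⟩ := exists_update hh d (by omega) f hf hfd (hdet.trans hAdet.symm)
  refine ⟨Matrix.of fun a b => upd d r (Fin.castAdd m a) (Fin.natAdd d b), ?_⟩
  have hu : (1 + upd d r : Matrix (Fin (d + m)) (Fin (d + m)) F) =
      (fromBlocks 1 (Matrix.of fun a b => upd d r (Fin.castAdd m a) (Fin.natAdd d b)) 0 1).reindex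
        finSumFinEquiv finSumFinEquiv := by
    ext i j
    obtain ⟨x, rfl⟩ := finSumFinEquiv.surjective i
    obtain ⟨y, rfl⟩ := finSumFinEquiv.surjective j
    rw [Matrix.reindex_apply, Matrix.submatrix_apply, Equiv.symm_apply_apply, Equiv.symm_apply_apply]
    rcases x with a | a <;> rcases y with b | b <;>
      simp only [finSumFinEquiv_apply_left, finSumFinEquiv_apply_right,
        fromBlocks_apply₁₁, fromBlocks_apply₁₂, fromBlocks_apply₂₁, fromBlocks_apply₂₂, Matrix.add_apply,
        Matrix.of_apply, Matrix.zero_apply]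
    · have : upd d r (Fin.castAdd m a) (Fin.castAdd m b) = 0 := by
        by_contra h
        have := upd_zero h
        simp only [Fin.val_castAdd] at this
        omega
      rw [this, add_zero]; simp [Matrix.one_apply, Fin.ext_iff]
    · rw [Matrix.one_apply_ne (fun h => by have := congrArg Fin.val h; simp at this; omega), zero_add]
    · have : upd d r (Fin.natAdd d a) (Fin.castAdd m b) = 0 := by
        by_contra h
        have := upd_zero h
        simp only [Fin.val_castAdd, Fin.val_natAdd] at this
        omega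
      rw [this, add_zero, Matrix.one_apply_ne (fun h => by have := congrArg Fin.val h; simp at this; omega)]
    · have : upd d r (Fin.natAdd d a) (Fin.natAdd d b) = 0 := by
        by_contra h
        have := upd_zero h
        simp only [Fin.val_natAdd] at this
        omega
      rw [this, add_zero]; simp [Matrix.one_apply, Fin.ext_iff]
  rw [hu, hA, Matrix.reindex_apply, Matrix.reindex_apply, submatrix_mul_equiv, fromBlocks_multiply] at hr
  simpa using hr.symm

theorem splits_block {d : ℕ} {ι : Type*} [Fintype ι] [DecidableEq ι] {S1 P : Matrix ι ι F}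
    (h : Splits S1 P) (hP : (P - 1).det ≠ 0) (e : Fin d ≃ ι) (R : Matrix (Fin d) (Fin m) F) :
    Splits ((fromBlocks (S1.submatrix e e) (S1.submatrix e e * R) (link F d m)
        (link F d m * R + tri F m)))
      (fromBlocks (P.submatrix e e) 0 0 (jord F m)) := by
  refine Splits.blocks ?_ (tri_splits m) (disj_unipotent ?_ (jord_nil m)) R _
  · simpa using h.reindex e.symm
  · rwa [show P.submatrix e e - 1 = (P - 1).submatrix e e by
      ext i j; simp [Matrix.one_apply, e.injective.eq_iff], det_submatrix_equiv_self]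

end Cfsg.Agent.Classical.Thompson
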