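import Cfsg.Agent.Lib.Classical.Thompson.Hess

/-!
# Decomposition of a square matrix into companion matrices
-/

set_option autoImplicit false

namespace Cfsg.Agent.Classical.Thompson

open Matrix Polynomial Module DirectSum

variable {F : Type*} [Field F]

theorem sim_toMatrix {n : ℕ} (A : Matrix (Fin n) (Fin n) F) (b : Module.Basis (Fin n) F (Fin n → F)) :
    Sim A (LinearMap.toMatrix b b (Matrix.toLin' A)) := by
  refine ⟨(Pi.basisFun F (Fin n)).toMatrix b, b.toMatrix (Pi.basisFun F (Fin n)), ?_, ?_⟩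
  · exact Module.Basis.toMatrix_mul_toMatrix_flip _ _
  · rw [basis_toMatrix_mul_linearMap_toMatrix_mul_basis_toMatrix, LinearMap.toMatrix_eq_toMatrix']
    simp

theorem exists_cyclic {n : ℕ} (A : Matrix (Fin n) (Fin n) F) :
    ∃ (r : ℕ) (k : Fin r → ℕ) (f : Fin r → F[X]) (hf : ∀ i, (f i).Monic)
      (hd : ∀ i, (f i).natDegree = k i) (e : (Σ i, Fin (k i)) ≃ Fin n), (∀ i, 1 ≤ k i) ∧
      Sim A ((blockDiagonal' fun i => compMat (f i) (hf i) (hd i)).reindex e e) := by
  classical
  let φ : Module.End F (Fin n → F) := Matrix.toLin' A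
  let M := Module.AEval' φ
  let ev := Module.AEval'.of φ
  haveI : Module.Finite F[X] M := Module.Finite.of_restrictScalars_finite F F[X] M
  have htor : Module.IsTorsion F[X] M := fun x =>
    ⟨⟨minpoly F φ, mem_nonZeroDivisors_of_ne_zero (minpoly.ne_zero (Algebra.IsIntegral.isIntegral φ))⟩, by
      obtain ⟨v, rfl⟩ := ev.surjective x
      show minpoly F φ • ev v = 0
      refine ev.symm.injective ?_
      rw [Module.AEval.of_symm_smul, LinearEquiv.symm_apply_apply, minpoly.aeval, map_zero]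
      rfl⟩
  obtain ⟨ι, hι, p, hp, e, ⟨E⟩⟩ := Module.equiv_directSum_of_isTorsion htor
  let P : ι → F[X] := fun i => p i ^ e i
  let f : ι → F[X] := fun i => P i * C (P i).leadingCoeff⁻¹
  have hP : ∀ i, P i ≠ 0 := fun i => pow_ne_zero _ (hp i).ne_zero
  have hf : ∀ i, (f i).Monic := fun i => monic_mul_leadingCoeff_inv (hP i)
  have hspan : ∀ i, Submodule.span F[X] {P i} = Ideal.span {f i} := fun i => by
    refine Eq.symm (Ideal.span_singleton_eq_span_singleton.2 ?_)
    exact associated_mul_unit_left _ _ (isUnit_C.2 (isUnit_iff_ne_zero.2 (inv_ne_zero (leadingCoeff_ne_zero.2 (hP i)))))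
  let q : ∀ i, (F[X] ⧸ Submodule.span F[X] {P i}) ≃ₗ[F[X]] (F[X] ⧸ Ideal.span {f i}) := fun i =>
    Submodule.quotEquivOfEq _ _ (hspan i)
  let q' : ∀ i, (F[X] ⧸ Submodule.span F[X] {P i}) ≃ₗ[F] AdjoinRoot (f i) := fun i =>
    { toFun := fun x => q i x
      map_add' := fun x y => map_add (q i) x y
      map_smul' := fun c x => ((q i).restrictScalars F).map_smul c x
      invFun := fun y => (q i).symm y
      left_inv := (q i).left_inv
      right_inv := (q i).right_inv }
  have hq : ∀ i (x : F[X] ⧸ Submodule.span F[X] {P i}), q' i ((X : F[X]) • x) = AdjoinRoot.root (f i) * q' i x := by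
    intro i x
    obtain ⟨s, rfl⟩ := Submodule.Quotient.mk_surjective _ x
    have hmk : ∀ u : F[X], q' i (Submodule.Quotient.mk u) = AdjoinRoot.mk (f i) u := fun u => rfl
    rw [← Submodule.Quotient.mk_smul, smul_eq_mul, hmk, hmk, map_mul, AdjoinRoot.mk_X]
  let Φ : (Fin n → F) ≃ₗ[F] ∀ i, AdjoinRoot (f i) :=
    ((ev.trans (E.restrictScalars F)).trans (DirectSum.linearEquivFunOnFintype F ι _)).trans
      (LinearEquiv.piCongrRight q')
  have hΦ : ∀ v i, Φ (A.mulVec v) i = AdjoinRoot.root (f i) * Φ v i := by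
    intro v i
    show q' i ((E (ev (A.mulVec v))) i) = AdjoinRoot.root (f i) * q' i ((E (ev v)) i)
    rw [← Matrix.toLin'_apply, ← Module.AEval'.X_smul_of, map_smul, DirectSum.smul_apply, hq]
  let bI : ∀ i, Module.Basis (Fin (f i).natDegree) F (AdjoinRoot (f i)) := fun i =>
    (AdjoinRoot.powerBasis' (hf i)).basis.reindex (finCongr rfl)
  let bV : Module.Basis (Σ i, Fin (f i).natDegree) F (Fin n → F) := (Pi.basis bI).map Φ.symm
  let t : {i : ι // 1 ≤ (f i).natDegree} ≃ Fin (Fintype.card {i : ι // 1 ≤ (f i).natDegree}) :=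
    Fintype.equivFin _
  let σ : (Σ j, Fin (f (t.symm j).val).natDegree) ≃ Σ i, Fin (f i).natDegree :=
    Equiv.ofBijective (fun x => ⟨(t.symm x.1).val, x.2⟩) ⟨by
      rintro ⟨j, a⟩ ⟨j', a'⟩ h
      have h1 : j = j' := t.symm.injective (Subtype.ext (congrArg Sigma.fst h))
      subst h1
      rw [Sigma.mk.inj_iff] at h
      exact congrArg (Sigma.mk j) (eq_of_heq h.2), by
      rintro ⟨i, a⟩
      obtain ⟨j, hj⟩ : ∃ j, t.symm j = ⟨i, by have := a.2; omega⟩ := t.symm.surjective _
      have hji : (t.symm j).val = i := by rw [hj]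
      subst hji
      exact ⟨⟨j, a⟩, rfl⟩⟩
  let e0 : (Σ i, Fin (f i).natDegree) ≃ Fin n := bV.indexEquiv (Pi.basisFun F (Fin n))
  refine ⟨_, fun j => (f (t.symm j).val).natDegree, fun j => f (t.symm j).val, fun j => hf _, fun _ => rfl,
    σ.trans e0, fun j => (t.symm j).2, ?_⟩
  refine (sim_toMatrix A (bV.reindex e0)).trans ?_
  suffices h : LinearMap.toMatrix (bV.reindex e0) (bV.reindex e0) (Matrix.toLin' A) =
      (blockDiagonal' fun j => compMat (f (t.symm j).val) (hf _) rfl).reindex (σ.trans e0) (σ.trans e0) by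
    rw [h]; exact Sim.refl _
  ext a b
  obtain ⟨x, rfl⟩ := (σ.trans e0).surjective a
  obtain ⟨y, rfl⟩ := (σ.trans e0).surjective b
  rw [Matrix.reindex_apply, Matrix.submatrix_apply, Equiv.symm_apply_apply, Equiv.symm_apply_apply,
    LinearMap.toMatrix_apply, Module.Basis.repr_reindex_apply, Module.Basis.reindex_apply]
  simp only [Equiv.trans_apply, Equiv.symm_apply_apply]
  rw [Matrix.toLin'_apply]
  show (Pi.basis bI).repr (Φ (A.mulVec (bV (σ y)))) (σ x) = _
  obtain ⟨i, a'⟩ := x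
  obtain ⟨j, b'⟩ := y
  have hσ : ∀ (u : Fin (Fintype.card {i : ι // 1 ≤ (f i).natDegree})) (c : Fin (f (t.symm u).val).natDegree),
      σ ⟨u, c⟩ = ⟨(t.symm u).val, c⟩ := fun u c => rfl
  rw [hσ, hσ, Pi.basis_repr, hΦ]
  simp only [bV, Module.Basis.map_apply, LinearEquiv.apply_symm_apply, Pi.basis_apply]
  by_cases hij : i = j
  · subst hij
    rw [Pi.single_eq_same, blockDiagonal'_apply_eq, compMat, Algebra.leftMulMatrix_eq_repr_mul]
  · rw [Pi.single_eq_of_ne (fun h => hij (t.symm.injective (Subtype.ext h))), mul_zero, map_zero,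
      blockDiagonal'_apply_ne _ _ _ hij, Finsupp.zero_apply]

end Cfsg.Agent.Classical.Thompson
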