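import Cfsg.Agent.Lib.Classical.Thompson.Basic

/-!
# Hessenberg matrices and companion matrices

A Hessenberg matrix with unit subdiagonal is similar to a companion matrix, and rank one or two
updates of a fixed one realise every monic polynomial with the right constant coefficient.
-/

set_option autoImplicit false

namespace Cfsg.Agent.Classical.Thompson

open Matrix Polynomial

variable {F : Type*} [Field F] {k : ℕ}

/-- upper Hessenberg with unit subdiagonal -/
def IsHess (A : Matrix (Fin k) (Fin k) F) : Prop :=
  ∀ i j : Fin k, (j.val + 1 < i.val → A i j = 0) ∧ (j.val + 1 = i.val → A i j = 1)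

/-- the monic polynomials attached to the Krylov basis -/
noncomputable def hessPoly (A : Matrix (Fin k) (Fin k) F) : ℕ → F[X]
  | 0 => 1
  | n + 1 =>
    if hn : n < k then
      X * hessPoly A n -
        ∑ i : Fin k, (if h : i.val ≤ n then C (A i ⟨n, hn⟩) * hessPoly A i.val else 0)
    else 0
termination_by n => n
decreasing_by all_goals omega

theorem hessPoly_zero (A : Matrix (Fin k) (Fin k) F) : hessPoly A 0 = 1 := by
  rw [hessPoly]

theorem hessPoly_succ (A : Matrix (Fin k) (Fin k) F) (n : ℕ) (hn : n < k) :
    hessPoly A (n + 1) = X * hessPoly A n -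
      ∑ i : Fin k, (if i.val ≤ n then C (A i ⟨n, hn⟩) * hessPoly A i.val else 0) := by
  rw [hessPoly, dif_pos hn]
  congr 1

theorem hessPoly_monic (A : Matrix (Fin k) (Fin k) F) : ∀ n : ℕ, n ≤ k →
    (hessPoly A n).natDegree ≤ n ∧ (hessPoly A n).coeff n = 1 := by
  intro n
  induction n using Nat.strong_induction_on with
  | _ n ih =>
    intro hn
    cases n with
    | zero => simp [hessPoly_zero]
    | succ m =>
      rw [hessPoly_succ A m (by omega)]
      obtain ⟨h1, h2⟩ := ih m (by omega) (by omega)
      have hs : (∑ i : Fin k, (if i.val ≤ m then C (A i ⟨m, by omega⟩) * hessPoly A i.val else 0)).natDegree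
          ≤ m := by
        refine natDegree_sum_le_of_forall_le _ _ fun i _ => ?_
        split_ifs with h
        · exact (natDegree_C_mul_le _ _).trans (((ih i.val (by omega) (by omega)).1).trans h)
        · simp
      refine ⟨(natDegree_sub_le _ _).trans (max_le ?_ (hs.trans (Nat.le_succ _))), ?_⟩
      · exact natDegree_mul_le.trans (by rw [natDegree_X]; omega)
      · rw [coeff_sub, coeff_X_mul, h2, coeff_eq_zero_of_natDegree_lt (by omega : _ < m + 1), sub_zero]

theorem hessPoly_natDegree (A : Matrix (Fin k) (Fin k) F) {n : ℕ} (hn : n ≤ k) :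
    (hessPoly A n).natDegree = n := by
  obtain ⟨h1, h2⟩ := hessPoly_monic A n hn
  exact le_antisymm h1 (le_natDegree_of_ne_zero (by rw [h2]; exact one_ne_zero))

theorem hessPoly_isMonic (A : Matrix (Fin k) (Fin k) F) {n : ℕ} (hn : n ≤ k) :
    (hessPoly A n).Monic :=
  monic_of_natDegree_le_of_coeff_eq_one n (hessPoly_monic A n hn).1 (hessPoly_monic A n hn).2

theorem hessPoly_col {A : Matrix (Fin k) (Fin k) F} (hA : IsHess A) (j : Fin k) :
    ∑ i : Fin k, C (A i j) * hessPoly A i.val =
      X * hessPoly A j.val - (if j.val + 1 < k then 0 else hessPoly A k) := by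
  have hs := hessPoly_succ A j.val j.2
  have hsplit : ∀ i : Fin k, C (A i j) * hessPoly A i.val =
      (if i.val ≤ j.val then C (A i ⟨j.val, j.2⟩) * hessPoly A i.val else 0) +
        (if i.val = j.val + 1 then hessPoly A i.val else 0) := by
    intro i
    by_cases h1 : i.val ≤ j.val
    · rw [if_pos h1, if_neg (by omega), add_zero]
    · by_cases h2 : i.val = j.val + 1
      · rw [if_neg h1, if_pos h2, (hA i j).2 h2.symm, map_one, one_mul, zero_add]
      · rw [if_neg h1, if_neg h2, (hA i j).1 (by omega), map_zero, zero_mul, add_zero]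
  rw [Finset.sum_congr rfl fun i _ => hsplit i, Finset.sum_add_distrib]
  by_cases hj : j.val + 1 < k
  · rw [if_pos hj, sub_zero, Finset.sum_eq_single (a := (⟨j.val + 1, hj⟩ : Fin k))
        (f := fun i : Fin k => if i.val = j.val + 1 then hessPoly A i.val else 0)
        (fun i _ hi => if_neg fun h => hi (Fin.ext h)) (by simp), if_pos rfl]
    simp only [hs]
    ring
  · rw [if_neg hj]
    have hk : j.val + 1 = k := by have := j.2; omega
    rw [hk] at hs
    rw [hs, Finset.sum_eq_zero (f := fun i : Fin k => if i.val = j.val + 1 then hessPoly A i.val else 0)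
      fun i _ => if_neg (by have := i.2; omega)]
    ring

/-- companion matrix of a monic polynomial of degree `k` -/
noncomputable def compMat (f : F[X]) (hf : f.Monic) (hd : f.natDegree = k) :
    Matrix (Fin k) (Fin k) F :=
  Algebra.leftMulMatrix ((AdjoinRoot.powerBasis' hf).basis.reindex (finCongr hd)) (AdjoinRoot.root f)

theorem compMat_det (f : F[X]) (hf : f.Monic) (hd : f.natDegree = k) :
    (compMat f hf hd).det = (-1) ^ k * f.coeff 0 := by
  rw [compMat, ← Algebra.norm_eq_matrix_det]
  have h := Algebra.PowerBasis.norm_gen_eq_coeff_zero_minpoly (AdjoinRoot.powerBasis' hf)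
  simp only [AdjoinRoot.powerBasis'_gen, AdjoinRoot.powerBasis'_dim,
    AdjoinRoot.minpoly_root hf.ne_zero, hf.leadingCoeff, inv_one, map_one, mul_one, hd] at h
  exact h

theorem hess_sim {A : Matrix (Fin k) (Fin k) F} (hA : IsHess A) :
    Sim A (compMat (hessPoly A k) (hessPoly_isMonic A le_rfl) (hessPoly_natDegree A le_rfl)) := by
  classical
  set f := hessPoly A k
  have hf : f.Monic := hessPoly_isMonic A le_rfl
  have hd : f.natDegree = k := hessPoly_natDegree A le_rfl
  set b := (AdjoinRoot.powerBasis' hf).basis.reindex (finCongr hd) with hb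
  let T : Matrix (Fin k) (Fin k) F := Matrix.of fun i j => (hessPoly A j.val).coeff i.val
  have hrepr : ∀ (j i : Fin k), b.repr (AdjoinRoot.mk f (hessPoly A j.val)) i = T i j := by
    intro j i
    rw [hb, Module.Basis.repr_reindex_apply]
    change (AdjoinRoot.modByMonicHom hf (AdjoinRoot.mk f (hessPoly A j.val))).coeff _ = _
    rw [AdjoinRoot.modByMonicHom_mk, (modByMonic_eq_self_iff hf).2]
    · rfl
    · rw [degree_eq_natDegree (hessPoly_isMonic A j.2.le).ne_zero, degree_eq_natDegree hf.ne_zero,
        hessPoly_natDegree A j.2.le, hd]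
      exact_mod_cast j.2
  have hT : T.det = 1 := by
    rw [det_of_isUpperTriangular]
    · exact Finset.prod_eq_one fun i _ => (hessPoly_monic A i.val i.2.le).2
    · intro i j hij
      exact coeff_eq_zero_of_natDegree_lt (by rw [hessPoly_natDegree A j.2.le]; exact hij)
  have hTu : IsUnit T.det := by rw [hT]; exact isUnit_one
  have key : compMat f hf hd * T = T * A := by
    ext i j
    have h1 : (compMat f hf hd * T) i j =
        b.repr (AdjoinRoot.root f * AdjoinRoot.mk f (hessPoly A j.val)) i := by
      rw [← Algebra.leftMulMatrix_mulVec_repr b, Matrix.mul_apply]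
      simp only [Matrix.mulVec, dotProduct, ← hrepr, compMat, hb]
    have h2 : AdjoinRoot.root f * AdjoinRoot.mk f (hessPoly A j.val) =
        ∑ l : Fin k, A l j • AdjoinRoot.mk f (hessPoly A l.val) := by
      have h3 := congrArg (AdjoinRoot.mk f) (hessPoly_col hA j)
      rw [map_sum, map_sub, map_mul, AdjoinRoot.mk_X,
        show AdjoinRoot.mk f (if j.val + 1 < k then 0 else hessPoly A k) = 0 by
          split_ifs
          · exact map_zero _
          · exact AdjoinRoot.mk_self, sub_zero] at h3
      rw [← h3]
      refine Finset.sum_congr rfl fun l _ => ?_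
      rw [Algebra.smul_def, map_mul, AdjoinRoot.algebraMap_eq, AdjoinRoot.mk_C]
    rw [h1, h2, map_sum, Finsupp.finset_sum_apply, Matrix.mul_apply]
    refine Finset.sum_congr rfl fun l _ => ?_
    rw [map_smul, Finsupp.smul_apply, hrepr, smul_eq_mul, mul_comm]
  refine ⟨T⁻¹, T, Matrix.nonsing_inv_mul _ hTu, ?_⟩
  rw [Matrix.mul_assoc, key, ← Matrix.mul_assoc, Matrix.nonsing_inv_mul _ hTu, Matrix.one_mul]

theorem hess_det {A : Matrix (Fin k) (Fin k) F} (hA : IsHess A) :
    A.det = (-1) ^ k * (hessPoly A k).coeff 0 := by
  rw [(hess_sim hA).det_eq, compMat_det]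

/-- the update matrix -/
def upd (d : ℕ) (r : ℕ → F) : Matrix (Fin k) (Fin k) F :=
  Matrix.of fun i j => if i.val = 0 ∧ d ≤ j.val then r (j.val - d)
    else if i.val = 1 ∧ d = 2 ∧ j.val = 2 then r (k - 2) else 0

theorem upd_zero {d : ℕ} {r : ℕ → F} {i j : Fin k} (h : upd d r i j ≠ 0) :
    i.val < d ∧ d ≤ j.val ∨ d = 0 := by
  simp only [upd, Matrix.of_apply] at h
  split_ifs at h with h1 h2
  · omega
  · omega
  · exact absurd rfl h

theorem det_one_add_upd (d : ℕ) (hd : 1 ≤ d) (r : ℕ → F) :
    (1 + upd d r : Matrix (Fin k) (Fin k) F).det = 1 := by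
  rw [det_of_isUpperTriangular]
  · refine Finset.prod_eq_one fun i _ => ?_
    have : upd d r i i = 0 := by
      by_contra h; rcases upd_zero h with h1 | h1 <;> omega
    simp [this]
  · intro i j hij
    have hji : j.val < i.val := hij
    have : upd d r i j = 0 := by
      by_contra h; rcases upd_zero h with h1 | h1 <;> omega
    simp [this, Matrix.one_apply_ne (show i ≠ j from fun e => by subst e; omega)]

theorem isHess_update {A : Matrix (Fin k) (Fin k) F} (hA : IsHess A) (d : ℕ) (hd : 1 ≤ d)
    (r : ℕ → F) : IsHess (A * (1 + upd d r)) := by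
  intro i j
  rw [Matrix.mul_add, Matrix.mul_one, Matrix.add_apply]
  have h0 : j.val + 1 ≤ i.val → ((A * upd d r : Matrix (Fin k) (Fin k) F)) i j = 0 := fun hij => by
    rw [Matrix.mul_apply]
    refine Finset.sum_eq_zero fun t _ => ?_
    by_cases h : upd d r t j = 0
    · exact mul_eq_zero_of_right _ h
    · refine mul_eq_zero_of_left ((hA i t).1 ?_) _
      rcases upd_zero h with h1 | h1 <;> omega
  exact ⟨fun h => by rw [(hA i j).1 h, h0 (by omega), add_zero],
    fun h => by rw [(hA i j).2 h, h0 (by omega), add_zero]⟩

/-- every monic polynomial with the right constant term occurs after an update -/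
theorem exists_update [Finite F] {A : Matrix (Fin k) (Fin k) F} (hA : IsHess A) (d : ℕ)
    (hd : d = 1 ∧ 1 ≤ k ∨ d = 2 ∧ 3 ≤ k) (f : F[X]) (hf : f.Monic) (hfd : f.natDegree = k)
    (hdet : (compMat f hf hfd).det = A.det) :
    ∃ r : ℕ → F, Sim (A * (1 + upd d r)) (compMat f hf hfd) := by
  classical
  let ext : (Fin (k - 1) → F) → ℕ → F := fun r n => if h : n < k - 1 then r ⟨n, h⟩ else 0
  let A' : (Fin (k - 1) → F) → Matrix (Fin k) (Fin k) F := fun r => A * (1 + upd d (ext r))
  have hd1 : 1 ≤ d := by omega
  let Φ : (Fin (k - 1) → F) → (Fin (k - 1) → F) := fun r n =>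
    (hessPoly (A' r) k).coeff (n.val + 1)
  have hconst : ∀ r, (hessPoly (A' r) k).coeff 0 = f.coeff 0 := fun r => by
    have h1 := hess_det (isHess_update hA d hd1 (ext r))
    rw [det_mul, det_one_add_upd d hd1, mul_one, ← hdet, compMat_det] at h1
    exact (mul_left_cancel₀ (pow_ne_zero _ (neg_ne_zero.2 one_ne_zero)) h1).symm
  have hinj : Function.Injective Φ := by
    intro r r' hrr
    rcases Nat.lt_or_ge k 2 with hk2 | hk2
    · funext x
      exact absurd x.2 (by omega)
    have hpoly : hessPoly (A' r) k = hessPoly (A' r') k := by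
      ext n
      rcases Nat.eq_zero_or_pos n with rfl | hn
      · rw [hconst, hconst]
      rcases lt_trichotomy n k with hnk | rfl | hnk
      · have h := congrFun hrr ⟨n - 1, by omega⟩
        simp only [Φ, Nat.sub_add_cancel (by omega : 1 ≤ n)] at h
        exact h
      · rw [(hessPoly_monic _ _ le_rfl).2, (hessPoly_monic _ _ le_rfl).2]
      · rw [coeff_eq_zero_of_natDegree_lt (by rw [hessPoly_natDegree _ le_rfl]; omega),
          coeff_eq_zero_of_natDegree_lt (by rw [hessPoly_natDegree _ le_rfl]; omega)]
    set δ : Matrix (Fin k) (Fin k) F := upd d (ext r) - upd d (ext r') with hδ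
    set E := hessPoly (A' r') with hE
    let D : ℕ → F[X] := fun n => hessPoly (A' r) n - E n
    let π : ℕ → F[X] := fun n => if hn : n < k then
      ∑ i : Fin k, C ((A * δ) i ⟨n, hn⟩) * E i.val else 0
    have hrec : ∀ n (hn : n < k), D (n + 1) = X * D n -
        ∑ i : Fin k, (if i.val ≤ n then C ((A' r : Matrix (Fin k) (Fin k) F) i ⟨n, hn⟩) * D i.val else 0) - π n := by
      intro n hn
      have hz : ∀ i : Fin k, ¬ i.val ≤ n → (A * δ) i ⟨n, hn⟩ = 0 := fun i hi => by
        have h1 : ∀ s : ℕ → F, (A * upd d s : Matrix (Fin k) (Fin k) F) i ⟨n, hn⟩ = 0 := fun s => by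
          have h2 := isHess_update hA d hd1 s i ⟨n, hn⟩
          rw [Matrix.mul_add, Matrix.mul_one, Matrix.add_apply] at h2
          have h3 := hA i ⟨n, hn⟩
          rcases Nat.lt_or_ge (n + 1) i.val with h | h
          · simpa [h3.1 h] using h2.1 h
          · simpa [h3.2 (show n + 1 = i.val by omega)] using h2.2 (show n + 1 = i.val by omega)
        rw [hδ, Matrix.mul_sub, Matrix.sub_apply, h1, h1, sub_zero]
      have hπ : π n = ∑ i : Fin k, (if i.val ≤ n then C ((A * δ) i ⟨n, hn⟩) * E i.val else 0) := by
        simp only [π, dif_pos hn]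
        refine Finset.sum_congr rfl fun i _ => ?_
        split_ifs with h
        · rfl
        · rw [hz i h, map_zero, zero_mul]
      simp only [D, hπ, hE, hessPoly_succ _ n hn]
      have hsum : (∑ i : Fin k, (if i.val ≤ n then C ((A' r : Matrix (Fin k) (Fin k) F) i ⟨n, hn⟩) * hessPoly (A' r) i.val else 0)) -
          (∑ i : Fin k, (if i.val ≤ n then C ((A' r' : Matrix (Fin k) (Fin k) F) i ⟨n, hn⟩) * hessPoly (A' r') i.val else 0)) =
          (∑ i : Fin k, (if i.val ≤ n then C ((A' r : Matrix (Fin k) (Fin k) F) i ⟨n, hn⟩) * (hessPoly (A' r) i.val - hessPoly (A' r') i.val) else 0)) +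
          ∑ i : Fin k, (if i.val ≤ n then C ((A * δ) i ⟨n, hn⟩) * hessPoly (A' r') i.val else 0) := by
        rw [← Finset.sum_sub_distrib, ← Finset.sum_add_distrib]
        refine Finset.sum_congr rfl fun i _ => ?_
        split_ifs with h
        · have : (A * δ) i ⟨n, hn⟩ = (A' r : Matrix (Fin k) (Fin k) F) i ⟨n, hn⟩ - (A' r' : Matrix (Fin k) (Fin k) F) i ⟨n, hn⟩ := by
            simp [A', hδ, Matrix.mul_add, Matrix.mul_sub]
          rw [this, map_sub]
          ring
        · simp
      linear_combination -hsum
    have hπval : ∀ n (hn : n < k), π n =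
        C (δ ⟨0, by omega⟩ ⟨n, hn⟩) * X +
          (if h : 1 < d then C (δ ⟨1, by omega⟩ ⟨n, hn⟩) * (X * E 1) else 0) := by
      intro n hn
      have hcol : ∀ t : Fin k, t.val < d → ∑ i : Fin k, C (A i t) * E i.val = X * E t.val := by
        intro t ht
        have hc := hessPoly_col (isHess_update hA d hd1 (ext r')) t
        rw [if_pos (by omega), sub_zero] at hc
        rw [← hc]
        refine Finset.sum_congr rfl fun i _ => ?_
        congr 2
        rw [Matrix.mul_add, Matrix.mul_one, Matrix.add_apply, eq_comm, add_eq_left]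
        rw [Matrix.mul_apply]
        refine Finset.sum_eq_zero fun s _ => ?_
        have : upd d (ext r') s t = 0 := by by_contra h; rcases upd_zero h with h1 | h1 <;> omega
        exact mul_eq_zero_of_right _ this
      have hsum : π n = ∑ t : Fin k, C (δ t ⟨n, hn⟩) * ∑ i : Fin k, C (A i t) * E i.val := by
        simp only [π, dif_pos hn, Matrix.mul_apply, map_sum, Finset.sum_mul, map_mul, Finset.mul_sum]
        rw [Finset.sum_comm]
        exact Finset.sum_congr rfl fun t _ => Finset.sum_congr rfl fun i _ => by ring
      have hzero : ∀ t : Fin k, ¬ t.val < d → δ t ⟨n, hn⟩ = 0 := fun t ht => by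
        have h1 : ∀ s : ℕ → F, upd d s t ⟨n, hn⟩ = 0 := fun s => by
          by_contra h; rcases upd_zero h with h2 | h2 <;> omega
        rw [hδ, Matrix.sub_apply, h1, h1, sub_zero]
      rw [hsum]
      by_cases h : 1 < d
      · rw [dif_pos h, Finset.sum_eq_add (⟨0, by omega⟩ : Fin k) ⟨1, by omega⟩
          (by simp [Fin.ext_iff]) (fun t _ ht => ?_) (by simp) (by simp),
          hcol _ (show 0 < d by omega), hcol _ h, hE, hessPoly_zero, mul_one]
        rw [hzero t (fun h2 => by
          have h3 := ht.1; have h4 := ht.2
          simp only [ne_eq, Fin.ext_iff] at h3 h4; omega), map_zero, zero_mul]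
      · rw [dif_neg h, add_zero, Finset.sum_eq_single (⟨0, by omega⟩ : Fin k) (fun t _ ht => ?_)
          (by simp), hcol _ (show 0 < d by omega), hE, hessPoly_zero, mul_one]
        rw [hzero t (fun h2 => ht (Fin.ext (show t.val = 0 by omega))), map_zero, zero_mul]
    have hdz : ∀ n (hn : n < k), n < d → δ ⟨0, by omega⟩ ⟨n, hn⟩ = 0 := fun n hn hnd => by
      simp [hδ, upd, Nat.not_le.2 hnd]
    have hd1z : ∀ n (hn : n < k) (h : 1 < d), n ≠ 2 → δ ⟨1, by omega⟩ ⟨n, hn⟩ = 0 := fun n hn h hn2 => by
      simp [hδ, upd, hn2]
    have hzeroπ : ∀ n, n < k → π n = 0 := by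
      by_contra hne
      push Not at hne
      have hex : ∃ n, n < k ∧ π n ≠ 0 := hne
      obtain ⟨hs, hπs⟩ := Nat.find_spec hex
      set s := Nat.find hex with hsdef
      have hds : d ≤ s := by
        by_contra hlt
        refine hπs ?_
        rw [hπval s hs, hdz s hs (by omega), map_zero, zero_mul, zero_add]
        split_ifs with h
        · rw [hd1z s hs h (by omega), map_zero, zero_mul]
        · rfl
      have hbefore : ∀ n, n ≤ s → D n = 0 := by
        intro n
        induction n using Nat.strong_induction_on with
        | _ n ih =>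
          intro hn
          cases n with
          | zero => simp [D, hE, hessPoly_zero]
          | succ m =>
            have hpm : π m = 0 := by
              by_contra h
              exact Nat.find_min hex (show m < s by omega) ⟨by omega, h⟩
            rw [hrec m (by omega), ih m (by omega) (by omega), hpm, mul_zero, zero_sub, sub_zero,
              neg_eq_zero]
            refine Finset.sum_eq_zero fun i _ => ?_
            split_ifs with h
            · rw [ih i.val (by omega) (by omega), mul_zero]
            · rfl
      set e := (π s).natDegree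
      have he1 : 1 ≤ e := by
        by_contra h
        have h0 : π s = C ((π s).coeff 0) := eq_C_of_natDegree_eq_zero (by omega)
        have h2 : (π s).coeff 0 = 0 := by
          rw [hπval s hs]
          split_ifs <;> simp
        exact hπs (by rw [h0, h2, map_zero])
      have hlow : ∀ n, s < n → n < k → (π n).natDegree ≤ 1 := fun n hsn hn => by
        rw [hπval n hn]
        refine (natDegree_add_le _ _).trans (max_le ((natDegree_C_mul_le _ _).trans natDegree_X_le) ?_)
        split_ifs with h
        · rw [hd1z n hn h (by omega), map_zero, zero_mul, natDegree_zero]; omega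
        · simp
      have hafter : ∀ n, s + 1 ≤ n → n ≤ k →
          (D n).natDegree ≤ e + (n - (s + 1)) ∧ (D n).coeff (e + (n - (s + 1))) ≠ 0 := by
        intro n
        induction n using Nat.strong_induction_on with
        | _ n ih =>
          intro hn1 hn2
          obtain ⟨m, rfl⟩ : ∃ m, n = m + 1 := ⟨n - 1, by omega⟩
          rw [hrec m (by omega)]
          rcases Nat.eq_or_lt_of_le (show s ≤ m by omega) with rfl | hlt
          · rw [hbefore s le_rfl, mul_zero, zero_sub,
              Finset.sum_eq_zero fun i _ => by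
                split_ifs with h
                · rw [hbefore i.val h, mul_zero]
                · rfl,
              neg_zero, zero_sub, Nat.sub_self, add_zero, natDegree_neg, coeff_neg, neg_ne_zero]
            exact ⟨le_rfl, fun h => hπs (leadingCoeff_eq_zero.1 h)⟩
          · obtain ⟨g1, g2⟩ := ih m (by omega) (by omega) (by omega)
            have hsum : (∑ i : Fin k, (if i.val ≤ m then C (A' r i ⟨m, by omega⟩) * D i.val else 0)).natDegree
                ≤ e + (m - (s + 1)) := by
              refine natDegree_sum_le_of_forall_le _ _ fun i _ => ?_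
              split_ifs with h
              · refine (natDegree_C_mul_le _ _).trans ?_
                by_cases his : i.val ≤ s
                · rw [hbefore _ his]; simp
                · rcases Nat.eq_or_lt_of_le h with h' | h'
                  · rw [h']; exact g1
                  · exact ((ih i.val (by omega) (by omega) (by omega)).1).trans (by omega)
              · simp
            rw [show e + (m + 1 - (s + 1)) = e + (m - (s + 1)) + 1 by omega]
            have hπm := hlow m hlt (by omega)
            have hX : (X * D m).natDegree ≤ e + (m - (s + 1)) + 1 :=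
              natDegree_mul_le.trans (by rw [natDegree_X]; omega)
            refine ⟨(natDegree_sub_le _ _).trans (max_le ((natDegree_sub_le _ _).trans
              (max_le hX (hsum.trans (Nat.le_succ _)))) (hπm.trans (Nat.le_add_left 1 _))), ?_⟩
            rw [coeff_sub, coeff_sub, coeff_X_mul,
              coeff_eq_zero_of_natDegree_lt (lt_of_le_of_lt hsum (Nat.lt_succ_self _)),
              coeff_eq_zero_of_natDegree_lt (lt_of_le_of_lt hπm (by omega : 1 < e + (m - (s + 1)) + 1)),
              sub_zero, sub_zero]
            exact g2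
      obtain ⟨-, h2⟩ := hafter k (by omega) le_rfl
      exact h2 (by simp [D, hE, hpoly])
    funext ⟨n, hn⟩
    have hext : ∀ s : Fin (k - 1) → F, ext s n = s ⟨n, hn⟩ := fun s => dif_pos hn
    rcases hd with ⟨rfl, hk⟩ | ⟨rfl, hk⟩
    · have h := hzeroπ (n + 1) (by omega)
      rw [hπval (n + 1) (by omega), dif_neg (by omega), add_zero] at h
      have h' := congrArg (fun p => Polynomial.coeff p 1) h
      simp [hδ, upd, hext, sub_eq_zero] at h'
      exact h'
    · by_cases hn' : n = k - 2
      · have h := hzeroπ 2 (by omega)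
        rw [hπval 2 (by omega), dif_pos (by omega)] at h
        have hE1 := hessPoly_monic (A' r') 1 (by omega)
        have h' := congrArg (fun p => Polynomial.coeff p 2) h
        simp [hδ, upd, hE, hE1.2, ← map_sub, coeff_C_mul, coeff_X_mul, coeff_X, sub_eq_zero] at h'
        subst hn'
        rw [hext, hext] at h'
        exact h'
      · have h := hzeroπ (n + 2) (by omega)
        rw [hπval (n + 2) (by omega), dif_pos (by omega)] at h
        by_cases h0 : n = 0
        · subst h0
          have h2 := hzeroπ 2 (by omega)
          rw [hπval 2 (by omega), dif_pos (by omega)] at h2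
          have hE1 := hessPoly_monic (A' r') 1 (by omega)
          have hc2 := congrArg (fun p => Polynomial.coeff p 2) h2
          have hc1 := congrArg (fun p => Polynomial.coeff p 1) h2
          simp [hδ, upd, hE, hE1.2, ← map_sub, coeff_C_mul, coeff_X_mul, coeff_X, sub_eq_zero] at hc2
          simp [hδ, upd, hE, hc2, ← map_sub, coeff_C_mul, sub_eq_zero, hext] at hc1
          exact hc1
        · have h' := congrArg (fun p => Polynomial.coeff p 1) h
          simp [hδ, upd, h0, hext, sub_eq_zero] at h'
          exact h'
  obtain ⟨r, hr⟩ := (Finite.injective_iff_surjective.1 hinj) fun n => f.coeff (n.val + 1)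
  refine ⟨ext r, ?_⟩
  have hh := isHess_update hA d hd1 (ext r)
  have hfe : hessPoly (A' r) k = f := by
    ext n
    rcases Nat.eq_zero_or_pos n with rfl | hn
    · exact hconst r
    rcases lt_trichotomy n k with hnk | rfl | hnk
    · have h := congrFun hr ⟨n - 1, by omega⟩
      simp only [Φ, Nat.sub_add_cancel (by omega : 1 ≤ n)] at h
      exact h
    · rw [(hessPoly_monic _ _ le_rfl).2, ← hfd]; exact hf.symm
    · rw [coeff_eq_zero_of_natDegree_lt (by rw [hessPoly_natDegree _ le_rfl]; omega),
        coeff_eq_zero_of_natDegree_lt (by omega)]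
  have hs := hess_sim hh
  subst hfe
  exact hs

end Cfsg.Agent.Classical.Thompson
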