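import Cfsg.Agent.Lib.Classical.Thompson.Basic

/-!
# Peeling a unit top entry with a non-scalar Schur complement
-/

set_option autoImplicit false

namespace Cfsg.Agent.Classical.Thompson

open Matrix Module

variable {F : Type*} [Field F]

theorem exists_dual_one {V : Type*} [AddCommGroup V] [Module F V] {v : V} (p : Submodule F V)
    (hv : v ∉ p) : ∃ φ : V →ₗ[F] F, φ v = 1 ∧ ∀ x ∈ p, φ x = 0 := by
  obtain ⟨f, hf, hp⟩ := Submodule.exists_dual_map_eq_bot_of_notMem hv inferInstance
  refine ⟨(f v)⁻¹ • f, by simp [inv_mul_cancel₀ hf], fun x hx => ?_⟩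
  have : f x ∈ p.map f := ⟨x, hx, rfl⟩
  rw [hp, Submodule.mem_bot] at this
  simp [this]

theorem exists_not_eigen {n : ℕ} {A : Matrix (Fin n) (Fin n) F} (hA : ∀ k : F, A ≠ k • 1) :
    ∃ v : Fin n → F, ∀ k : F, A *ᵥ v ≠ k • v := by
  classical
  by_contra hall
  push Not at hall
  choose l hl using hall
  rcases Nat.eq_zero_or_pos n with rfl | hn
  · exact hA 0 (by ext i; exact i.elim0)
  let i0 : Fin n := ⟨0, hn⟩
  have hd : ∀ i j, A i j = if i = j then l (Pi.single j 1) else 0 := fun i j => by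
    have := congrFun (hl (Pi.single j 1)) i
    simp [Pi.single_apply] at this
    exact this
  refine hA (l (Pi.single i0 1)) ?_
  ext i j
  rw [hd, Matrix.smul_apply, Matrix.one_apply, smul_eq_mul, mul_ite, mul_one, mul_zero]
  split_ifs with hij
  · by_cases h : j = i0
    · rw [h]
    · have h1 := congrFun (hl (Pi.single j 1 + Pi.single i0 1)) j
      have h2 := congrFun (hl (Pi.single j 1 + Pi.single i0 1)) i0
      simp [Matrix.mulVec_add, hd, Pi.single_apply, h, Ne.symm h] at h1 h2
      rw [h1, h2]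
  · rfl

theorem exists_functional_peel {n : ℕ} (A : Matrix (Fin n) (Fin n) F) (hdet : A.det ≠ 0)
    {v : Fin n → F} (hv : ∀ k : F, A *ᵥ v ≠ k • v) :
    ∃ φ : (Fin n → F) →ₗ[F] F, φ v = 1 ∧ φ (A *ᵥ v) = 1 ∧
      (3 ≤ n → ∀ k : F, ∃ x, φ x = 0 ∧ A *ᵥ x - φ (A *ᵥ x) • (A *ᵥ v) ≠ k • x) := by
  classical
  obtain ⟨w, hw⟩ : ∃ w, A *ᵥ v = w := ⟨_, rfl⟩
  rw [hw] at hv ⊢
  set u := w - v with hu
  have hv0 : v ≠ 0 := fun h => hv 0 (by simp [← hw, h])
  have hvu : v ∉ Submodule.span F {u} := by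
    rw [Submodule.mem_span_singleton]
    rintro ⟨c, hc⟩
    rcases eq_or_ne c 0 with rfl | hc0
    · exact hv0 (by rw [← hc, zero_smul])
    · refine hv (c⁻¹ + 1) ?_
      have : u = c⁻¹ • v := by rw [← hc, smul_smul, inv_mul_cancel₀ hc0, one_smul]
      rw [add_smul, one_smul, ← this, hu, sub_add_cancel]
  obtain ⟨φ0, h0v, h0u⟩ := exists_dual_one _ hvu
  have h0u' : φ0 u = 0 := h0u u (Submodule.mem_span_singleton_self u)
  have h0w : φ0 w = 1 := by
    have : w = v + u := by rw [hu]; abel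
    rw [this, map_add, h0v, h0u', add_zero]
  by_cases hn : 3 ≤ n
  swap
  · exact ⟨φ0, h0v, h0w, fun h => absurd h hn⟩
  by_contra hno
  push Not at hno
  obtain ⟨-, k, hk⟩ := hno φ0 h0v h0w
  obtain ⟨z, hz⟩ : ∃ z, z ∉ Submodule.span F ({v, u} : Set (Fin n → F)) := by
    by_contra hall
    push Not at hall
    have h1 : finrank F (Submodule.span F ({v, u} : Set (Fin n → F))) ≤ 2 := by
      have h2 := finrank_span_le_card (R := F) ({v, u} : Set (Fin n → F))
      refine h2.trans ?_
      rw [Set.toFinset_insert, Set.toFinset_singleton]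
      exact Finset.card_le_two
    rw [Submodule.eq_top_iff'.2 hall, finrank_top, Module.finrank_pi, Fintype.card_fin] at h1
    omega
  obtain ⟨η, hηz, hη⟩ := exists_dual_one _ hz
  have hηv : η v = 0 := hη v (Submodule.subset_span (by simp))
  have hηu : η u = 0 := hη u (Submodule.subset_span (by simp))
  have h1v : (φ0 + η) v = 1 := by simp [h0v, hηv]
  have h1u : (φ0 + η) u = 0 := by simp [h0u', hηu]
  have h1w : (φ0 + η) w = 1 := by
    have : w = v + u := by rw [hu]; abel
    rw [this, map_add, h1v, h1u, add_zero]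
  obtain ⟨-, k', hk'⟩ := hno (φ0 + η) h1v h1w
  have hind : ∀ a b : F, a • v + b • w = 0 → a = 0 ∧ b = 0 := by
    intro a b h
    rcases eq_or_ne b 0 with rfl | hb
    · rw [zero_smul, add_zero] at h
      exact ⟨(smul_eq_zero.1 h).resolve_right hv0, rfl⟩
    · refine absurd ?_ (hv (-(b⁻¹ * a)))
      have h' := congrArg (fun x => b⁻¹ • x) h
      simp only [smul_add, smul_smul, inv_mul_cancel₀ hb, one_smul, smul_zero] at h'
      rw [neg_smul]
      exact eq_neg_of_add_eq_zero_right h'
  have hu0 := sub_eq_iff_eq_add.1 (hk u h0u')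
  have hu1 := sub_eq_iff_eq_add.1 (hk' u h1u)
  have hkk : k = k' := by
    have h := hu0.symm.trans hu1
    have h2 : (-(k - k')) • v + ((k - k') + (φ0 (A *ᵥ u) - (φ0 + η) (A *ᵥ u))) • w = 0 := by
      rw [show (-(k - k')) • v + ((k - k') + (φ0 (A *ᵥ u) - (φ0 + η) (A *ᵥ u))) • w =
        (k • u + φ0 (A *ᵥ u) • w) - (k' • u + (φ0 + η) (A *ᵥ u) • w) by
          rw [hu]; module, h, sub_self]
    exact sub_eq_zero.1 (neg_eq_zero.1 (hind _ _ h2).1)
  have hk0 : k ≠ 0 := by
    intro h
    rw [h, zero_smul, zero_add] at hu0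
    have h2 : A *ᵥ (u - φ0 (A *ᵥ u) • v) = 0 := by
      rw [Matrix.mulVec_sub, Matrix.mulVec_smul, hw, ← hu0, sub_self]
    have h3 : u - φ0 (A *ᵥ u) • v = 0 := by
      by_contra hne
      exact hdet (Matrix.exists_mulVec_eq_zero_iff.1 ⟨_, hne, h2⟩)
    refine hv (φ0 (A *ᵥ u) + 1) ?_
    rw [add_smul, one_smul, ← sub_eq_zero.1 h3, hu, sub_add_cancel]
  let y := z - φ0 z • v
  have hy0 : φ0 y = 0 := by simp [y, h0v]
  have hy1 : η y = 1 := by simp [y, hηv, hηz]
  have hy' : (φ0 + η) (y - v) = 0 := by simp [hy0, hy1, h0v, hηv]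
  have e0 := sub_eq_iff_eq_add.1 (hk y hy0)
  have e1 := sub_eq_iff_eq_add.1 (hk' (y - v) hy')
  rw [Matrix.mulVec_sub, hw, e0, ← hkk] at e1
  have h2 : k • v + ((φ0 (A *ᵥ y) - 1) - (φ0 + η) (k • y + φ0 (A *ᵥ y) • w - w)) • w = 0 := by
    rw [show k • v + ((φ0 (A *ᵥ y) - 1) - (φ0 + η) (k • y + φ0 (A *ᵥ y) • w - w)) • w =
      (k • y + φ0 (A *ᵥ y) • w - w) - (k • (y - v) + (φ0 + η) (k • y + φ0 (A *ᵥ y) • w - w) • w) by
        module, ← e1, sub_self]
  exact hk0 (hind _ _ h2).1

theorem peel {m : ℕ} (A : Matrix (Fin (1 + m)) (Fin (1 + m)) F) (hdet : A.det = 1)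
    (hns : ∀ k : F, A ≠ k • 1) :
    ∃ (R : Matrix (Fin 1) (Fin m) F) (C : Matrix (Fin m) (Fin 1) F) (S : Matrix (Fin m) (Fin m) F),
      S.det = 1 ∧ C ≠ 0 ∧ (2 ≤ m → ∀ k : F, S ≠ k • 1) ∧
      Sim A ((fromBlocks 1 R C (C * R + S)).reindex finSumFinEquiv finSumFinEquiv) := by
  classical
  obtain ⟨v, hv⟩ := exists_not_eigen hns
  obtain ⟨φ, hφv, hφw, hφ⟩ := exists_functional_peel A (by rw [hdet]; exact one_ne_zero) hv
  obtain ⟨w, hw⟩ : ∃ w, A *ᵥ v = w := ⟨_, rfl⟩
  rw [hw] at hv hφw hφ
  let K := LinearMap.ker φ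
  have hK : finrank F K = m := by
    have hsurj : Function.Surjective φ := fun c => ⟨c • v, by simp [hφv]⟩
    have h := LinearMap.finrank_range_add_finrank_ker φ
    rw [LinearMap.range_eq_top.2 hsurj, finrank_top, finrank_self, Module.finrank_pi, Fintype.card_fin] at h
    change 1 + finrank F K = 1 + m at h
    omega
  let bK := Module.finBasisOfFinrankEq F K hK
  let π : (Fin (1 + m) → F) →ₗ[F] K := LinearMap.codRestrict K (LinearMap.id - φ.smulRight v)
    fun x => by simp [K, hφv]
  have hπval : ∀ x, (π x : Fin (1 + m) → F) = x - φ x • v := fun x => rfl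
  have hπv : π v = 0 := Subtype.ext (by rw [hπval, hφv, one_smul, sub_self]; rfl)
  let e : (Fin (1 + m) → F) ≃ₗ[F] (Fin 1 ⊕ Fin m → F) :=
    { toFun := fun x => Sum.elim (fun _ => φ x) (bK.equivFun (π x))
      map_add' := fun x y => by ext (i | i) <;> simp
      map_smul' := fun c x => by ext (i | i) <;> simp
      invFun := fun y => y (Sum.inl 0) • v + (bK.equivFun.symm fun i => y (Sum.inr i)).val
      left_inv := fun x => by
        show φ x • v + (bK.equivFun.symm fun i => bK.equivFun (π x) i).val = x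
        rw [LinearEquiv.symm_apply_apply, hπval]
        abel
      right_inv := fun y => by
        have hz : φ (bK.equivFun.symm fun i => y (Sum.inr i)).val = 0 := (bK.equivFun.symm _).2
        have hπ : π (y (Sum.inl 0) • v + (bK.equivFun.symm fun i => y (Sum.inr i)).val) =
            bK.equivFun.symm fun i => y (Sum.inr i) := Subtype.ext (by
              rw [hπval, map_add, map_smul, hφv, hz, add_zero, smul_eq_mul, mul_one]; abel)
        funext i
        rcases i with i | i
        · simp [hz, hφv, Subsingleton.elim i 0]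
        · show bK.equivFun (π _) i = _
          rw [hπ, LinearEquiv.apply_symm_apply] }
  let b : Module.Basis (Fin 1 ⊕ Fin m) F (Fin (1 + m) → F) := Module.Basis.ofEquivFun e
  let M := LinearMap.toMatrix b b (Matrix.toLin' A)
  have hrepr : ∀ x i, b.repr x i = e x i := fun x i => rfl
  have hbl : ∀ i, b (Sum.inl i) = v := fun i => by
    have h1 : e v = Pi.single (Sum.inl i) 1 := by
      funext j
      rcases j with j | j
      · simp [e, hφv, Subsingleton.elim j i]
      · simp [e, hπv]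
    rw [Module.Basis.coe_ofEquivFun]
    show e.symm (Pi.single (Sum.inl i) 1) = v
    rw [← h1, LinearEquiv.symm_apply_apply]
  have hbr : ∀ j, φ (b (Sum.inr j)) = 0 := fun j => by
    have := hrepr (b (Sum.inr j)) (Sum.inl 0)
    simp [e] at this
    exact this.symm
  let R := M.toBlocks₁₂
  let C := M.toBlocks₂₁
  let S := M.toBlocks₂₂ - C * R
  have h11 : M.toBlocks₁₁ = 1 := by
    ext i j
    rw [Subsingleton.elim i j]
    show M (Sum.inl j) (Sum.inl j) = (1 : Matrix (Fin 1) (Fin 1) F) j j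
    rw [Matrix.one_apply_eq]
    show LinearMap.toMatrix b b (Matrix.toLin' A) (Sum.inl j) (Sum.inl j) = 1
    rw [LinearMap.toMatrix_apply, hbl, hrepr, Matrix.toLin'_apply]
    simp [e, hw, hφw]
  have hM : M = fromBlocks 1 R C (C * R + S) := by
    rw [← h11, show C * R + S = M.toBlocks₂₂ by simp [S]]
    exact (fromBlocks_toBlocks M).symm
  have hsim : Sim A (M.reindex finSumFinEquiv finSumFinEquiv) := by
    let b' := b.reindex finSumFinEquiv
    have : M.reindex finSumFinEquiv finSumFinEquiv = LinearMap.toMatrix b' b' (Matrix.toLin' A) := by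
      ext i j
      simp [M, b', LinearMap.toMatrix_apply]
    rw [this]
    exact ⟨(Pi.basisFun F _).toMatrix b', b'.toMatrix (Pi.basisFun F _),
      Module.Basis.toMatrix_mul_toMatrix_flip _ _, by
        rw [basis_toMatrix_mul_linearMap_toMatrix_mul_basis_toMatrix, LinearMap.toMatrix_eq_toMatrix']
        simp⟩
  refine ⟨R, C, S, ?_, ?_, ?_, hM ▸ hsim⟩
  · have h := hsim.det_eq
    rw [hdet, det_reindex_self, hM, det_fromBlocks_one₁₁, add_sub_cancel_left] at h
    exact h.symm
  · intro hC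
    refine hv 1 ?_
    rw [one_smul]
    refine e.injective (funext fun i => ?_)
    rcases i with i | i
    · simp [e, hφv, hφw]
    · have h := congrFun (congrFun hC i) 0
      simp [C, M, Matrix.toBlocks₂₁, LinearMap.toMatrix_apply, hbl, hrepr, hw] at h
      simp [e, hπv] at h ⊢
      exact h
  · intro hm k hk
    obtain ⟨x, hx, hne⟩ := hφ (by omega) k
    refine hne ?_
    have hlin : ∀ j, A *ᵥ b (Sum.inr j) - φ (A *ᵥ b (Sum.inr j)) • w = k • b (Sum.inr j) := by
      intro j
      refine e.injective (funext fun i => ?_)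
      simp only [map_sub, map_smul, Pi.sub_apply, Pi.smul_apply, smul_eq_mul, ← hrepr, Finsupp.coe_sub, Finsupp.coe_smul]
      rcases i with i | i
      · rw [Module.Basis.repr_self, Finsupp.single_eq_of_ne (by simp), hrepr, hrepr]
        simp [e, hφw]
      · have h := congrFun (congrFun hk i) j
        simp only [S, C, R, Matrix.sub_apply, Matrix.mul_apply, Fin.sum_univ_one, Matrix.smul_apply,
          Matrix.one_apply, smul_eq_mul] at h
        simp only [M, Matrix.toBlocks₂₂, Matrix.toBlocks₂₁, Matrix.toBlocks₁₂, Matrix.of_apply,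
          LinearMap.toMatrix_apply, Matrix.toLin'_apply, hbl, hw] at h
        rw [hrepr _ (Sum.inl 0)] at h
        simp only [e, LinearEquiv.coe_mk, LinearMap.coe_mk, AddHom.coe_mk, Sum.elim_inl] at h
        rw [Module.Basis.repr_self, Finsupp.single_apply]
        simp only [Sum.inr.injEq, @eq_comm _ j i]
        rw [mul_comm (φ _)]
        exact h
    let T : (Fin (1 + m) → F) →ₗ[F] (Fin (1 + m) → F) :=
      Matrix.toLin' A - (φ.comp (Matrix.toLin' A)).smulRight w - k • LinearMap.id
    have hT : ∀ i, T (b i) = φ (b i) • T v := fun i => by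
      rcases i with i | i
      · rw [hbl, hφv, one_smul]
      · rw [hbr, zero_smul]
        simp [T, Matrix.toLin'_apply, hlin i]
    have hTx : T = φ.smulRight (T v) := b.ext fun i => by rw [hT]; rfl
    have h0 : T x = 0 := by
      rw [hTx, LinearMap.smulRight_apply, hx, zero_smul]
    exact sub_eq_zero.1 (by simpa [T, Matrix.toLin'_apply] using h0)

end Cfsg.Agent.Classical.Thompson
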