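import Cfsg.Agent.Lib.Classical.Thompson.Bottom
import Cfsg.Agent.Lib.Classical.Thompson.Peel
import Cfsg.Agent.S2522

/-!
# Non-scalar commutators over fields with at least four elements
-/

set_option autoImplicit false

namespace Cfsg.Agent.Classical.Thompson

open Matrix

variable {F : Type*} [Field F]

theorem splits_scalar {ι : Type*} [Fintype ι] [DecidableEq ι] {c : F} (hc : c ≠ 0) :
    Splits (1 : Matrix ι ι F) (c • 1) :=
  ⟨c • 1, c⁻¹ • 1, c⁻¹ • 1, by simp [smul_smul, hc], Sim.refl _, Sim.refl _, by simp [smul_smul, hc]⟩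

theorem det_one_fin {S : Matrix (Fin 1) (Fin 1) F} (h : S.det = 1) : S = 1 := by
  rw [det_fin_one] at h
  ext i j
  rw [Subsingleton.elim i 0, Subsingleton.elim j 0, h, one_apply_eq]

theorem Splits.top {m : ℕ} {S B : Matrix (Fin m) (Fin m) F} {μ : F} (hμ : μ ≠ 0)
    (hB : (B - μ • 1).det ≠ 0) (h : Splits S B) (R : Matrix (Fin 1) (Fin m) F) (C : Matrix (Fin m) (Fin 1) F) :
    Splits (fromBlocks 1 R C (C * R + S)) (fromBlocks (μ • 1) 0 0 B) := by
  simpa using (splits_scalar hμ).blocks h (disj_smul hB) R C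

/-- two dimensions, distinct eigenvalues -/
theorem splits_two {α β : F} (hα : α ≠ 0) (hβ : β ≠ 0) (hne : α ≠ β)
    (A : Matrix (Fin (1 + 1)) (Fin (1 + 1)) F) (hdet : A.det = 1) (hns : ∀ k : F, A ≠ k • 1) :
    Splits A ((fromBlocks (α • 1) 0 0 (β • 1)).reindex finSumFinEquiv finSumFinEquiv) := by
  obtain ⟨R, C, S, hS, -, -, hsim⟩ := peel A hdet hns
  refine Splits.sim (Splits.reindex ?_ finSumFinEquiv) hsim
  obtain rfl := det_one_fin hS
  refine Splits.top hα ?_ (splits_scalar hβ) R C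
  rw [← sub_smul, det_smul, det_one, mul_one]
  exact pow_ne_zero _ (sub_ne_zero.2 (Ne.symm hne))

theorem low_sim {c : F} (hc : c ≠ 0) : Sim (!![1, 0; c, 1] : Matrix (Fin 2) (Fin 2) F) (jord F 2) :=
  ⟨!![1, 0; 0, c], !![1, 0; 0, c⁻¹],
    by ext i j; fin_cases i <;> fin_cases j <;> simp [hc],
    by ext i j; fin_cases i <;> fin_cases j <;> simp [jord, Cfsg.Agent.Classical.RegularUnipotentConj.shift, hc, Matrix.mul_apply, Matrix.vecMul, dotProduct, Fin.sum_univ_two, Matrix.one_apply]⟩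

theorem upp_sim {c : F} (hc : c ≠ 0) : Sim (!![1, c; 0, 1] : Matrix (Fin 2) (Fin 2) F) (jord F 2) :=
  ⟨!![0, c; 1, 0], !![0, 1; c⁻¹, 0],
    by ext i j; fin_cases i <;> fin_cases j <;> simp [hc],
    by ext i j; fin_cases i <;> fin_cases j <;> simp [jord, Cfsg.Agent.Classical.RegularUnipotentConj.shift, hc, Matrix.mul_apply, Matrix.vecMul, dotProduct, Fin.sum_univ_two, Matrix.one_apply]⟩

/-- two dimensions, unipotent class -/
theorem splits_two_jord {γ : F} (hγ0 : γ ≠ 0) (hγ1 : γ ≠ 1)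
    (A : Matrix (Fin 2) (Fin 2) F) (hdet : A.det = 1) (hns : ∀ k : F, A ≠ k • 1) :
    Splits A (jord F 2) := by
  obtain ⟨R, C, S, hS, hC, -, hsim⟩ := peel (m := 1) A hdet hns
  refine Splits.sim ?_ hsim
  obtain rfl := det_one_fin hS
  have hc : C 0 0 ≠ 0 := fun h => hC (by ext i j; rw [Subsingleton.elim i 0, Subsingleton.elim j 0]; exact h)
  have hM : (fromBlocks 1 R C (C * R + 1)).reindex finSumFinEquiv finSumFinEquiv =
      (!![1, R 0 0; C 0 0, C 0 0 * R 0 0 + 1] : Matrix (Fin 2) (Fin 2) F) := by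
    ext i j
    obtain ⟨x, rfl⟩ := (finSumFinEquiv (m := 1) (n := 1)).surjective i
    obtain ⟨y, rfl⟩ := (finSumFinEquiv (m := 1) (n := 1)).surjective j
    rw [Matrix.reindex_apply, Matrix.submatrix_apply, Equiv.symm_apply_apply, Equiv.symm_apply_apply]
    rcases x with a | a <;> rcases y with b | b <;> (obtain rfl := Subsingleton.elim a 0) <;>
      (obtain rfl := Subsingleton.elim b 0) <;>
      simp [Matrix.mul_apply, show (finSumFinEquiv (Sum.inl (0 : Fin 1)) : Fin (1 + 1)) = 0 from rfl,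
        show (finSumFinEquiv (Sum.inr (0 : Fin 1)) : Fin (1 + 1)) = 1 from rfl]
  rw [hM]
  rcases eq_or_ne (R 0 0) 0 with hR | hR
  · rw [hR, mul_zero, zero_add]
    refine jord_splits (low_sim (c := γ * C 0 0) (mul_ne_zero hγ0 hc))
      (low_sim (c := (1 - γ) * C 0 0) (mul_ne_zero (sub_ne_zero.2 (Ne.symm hγ1)) hc)) ?_
    ext i j
    fin_cases i <;> fin_cases j <;> simp <;> ring
  · refine jord_splits (low_sim hc) (upp_sim hR) ?_
    ext i j
    fin_cases i <;> fin_cases j <;> simp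

theorem splits_jord (hK : 4 ≤ Cardinal.mk F) {γ : F} (hγ0 : γ ≠ 0) (hγ1 : γ ≠ 1) {m : ℕ} (hm : 2 ≤ m)
    (A : Matrix (Fin m) (Fin m) F) (hdet : A.det = 1) (hns : ∀ k : F, A ≠ k • 1) :
    Splits A (jord F m) := by
  rcases Nat.eq_or_lt_of_le hm with rfl | hm3
  · exact splits_two_jord hγ0 hγ1 A hdet hns
  have hJd : (jord F m)ᵀ.det ≠ 0 := by rw [det_transpose, jord_det]; exact one_ne_zero
  obtain ⟨x, y, hxy⟩ := Cfsg.Agent.S2522.result hK m hm3
    (Matrix.GeneralLinearGroup.mkOfDetNeZero (jord F m)ᵀ hJd)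
    (Matrix.GeneralLinearGroup.mkOfDetNeZero A (by rw [hdet]; exact one_ne_zero))
    (fun i j => by
      show (jord F m)ᵀ i j = _
      simp only [jord, Cfsg.Agent.Classical.RegularUnipotentConj.shift, Matrix.transpose_apply,
        Matrix.add_apply, Matrix.one_apply, Matrix.of_apply, Fin.ext_iff]
      split_ifs <;> first | omega | simp)
    (fun ⟨c, hc⟩ => hns c hc) hdet
  have hA : A = ((x : Matrix (Fin m) (Fin m) F) * (jord F m)ᵀ * ((x⁻¹ : GL (Fin m) F) : Matrix (Fin m) (Fin m) F)) *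
      ((y : Matrix (Fin m) (Fin m) F) * (jord F m)ᵀ * ((y⁻¹ : GL (Fin m) F) : Matrix (Fin m) (Fin m) F)) :=
    congrArg (fun g : GL (Fin m) F => (g : Matrix (Fin m) (Fin m) F)) hxy
  exact jord_splits (Sim.trans ⟨x, ((x⁻¹ : GL (Fin m) F) : Matrix (Fin m) (Fin m) F), by simp, rfl⟩ (jord_transpose_sim m))
    (Sim.trans ⟨y, ((y⁻¹ : GL (Fin m) F) : Matrix (Fin m) (Fin m) F), by simp, rfl⟩ (jord_transpose_sim m)) hA

theorem det_sub_scalar_blocks {ι κ : Type*} [Fintype ι] [DecidableEq ι] [Fintype κ] [DecidableEq κ]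
    (P : Matrix ι ι F) (B : Matrix κ κ F) (μ : F) :
    (fromBlocks P 0 0 B - μ • 1).det = (P - μ • 1).det * (B - μ • 1).det := by
  rw [← fromBlocks_one, fromBlocks_smul, sub_eq_add_neg, fromBlocks_neg, fromBlocks_add]
  simp [← sub_eq_add_neg, det_fromBlocks_zero₂₁]

theorem reindex_sub_scalar {ι κ : Type*} [Fintype ι] [DecidableEq ι] [Fintype κ] [DecidableEq κ]
    (P : Matrix ι ι F) (e : ι ≃ κ) (μ : F) :
    (P.reindex e e - μ • 1).det = (P - μ • 1).det := by
  rw [show P.reindex e e - μ • 1 = (P - μ • 1).reindex e e by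
    ext i j; simp [Matrix.one_apply], det_reindex_self]

theorem good_top {m : ℕ} {μ : F} {B : Matrix (Fin m) (Fin m) F} (h : μ * B.det = 1) :
    Good (fromBlocks (μ • (1 : Matrix (Fin 1) (Fin 1) F)) 0 0 B) :=
  good_fromBlocks (by simpa using h) fun t _ => ⟨t • 1, by simp, by simp [smul_smul, mul_comm]⟩

theorem isComm_large (hK : 4 ≤ Cardinal.mk F) {γ : F} (hγ0 : γ ≠ 0) (hγ : γ * γ ≠ 1) {n : ℕ}
    (hn : 2 ≤ n) (A : Matrix (Fin n) (Fin n) F) (hdet : A.det = 1) (hns : ∀ k : F, A ≠ k • 1) :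
    IsComm A := by
  have hγ1 : γ ≠ 1 := fun h => hγ (by rw [h, one_mul])
  have hγi : γ⁻¹ ≠ γ := fun h => hγ (by nth_rw 1 [← h]; exact inv_mul_cancel₀ hγ0)
  have hγi1 : γ⁻¹ ≠ 1 := fun h => hγ1 (inv_eq_one.1 h)
  obtain ⟨m, rfl⟩ : ∃ m, n = 1 + m := ⟨n - 1, by omega⟩
  obtain ⟨R, C, S, hS, -, hSns, hsim⟩ := peel A hdet hns
  refine IsComm.sim (IsComm.reindex ?_ finSumFinEquiv) hsim
  rcases Nat.lt_or_ge m 2 with h1 | h1
  · obtain rfl : m = 1 := by omega
    obtain rfl := det_one_fin hS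
    refine isComm_of_splits (Splits.top (μ := γ) hγ0 ?_ (splits_scalar (inv_ne_zero hγ0)) R C)
      (good_top (by simp [hγ0]))
    rw [← sub_smul, det_smul, det_one, mul_one]
    exact pow_ne_zero _ (sub_ne_zero.2 hγi)
  obtain ⟨m, rfl⟩ : ∃ j, m = 1 + j := ⟨m - 1, by omega⟩
  have hS' := hSns h1
  obtain ⟨R', C', T, hT, -, hTns, hsim'⟩ := peel S hS hS'
  suffices h : ∃ B : Matrix (Fin m) (Fin m) F, Splits T B ∧ B.det = 1 ∧ (B - γ • 1).det ≠ 0 ∧
      (B - γ⁻¹ • 1).det ≠ 0 by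
    obtain ⟨B, hB, hBd, hB1, hB2⟩ := h
    have h2 := ((Splits.top (inv_ne_zero hγ0) hB2 hB R' C').reindex finSumFinEquiv).sim hsim'
    refine isComm_of_splits (Splits.top (μ := γ) hγ0 ?_ h2 R C) (good_top ?_)
    · rw [reindex_sub_scalar, det_sub_scalar_blocks]
      refine mul_ne_zero ?_ hB1
      rw [← sub_smul, det_smul, det_one, mul_one]
      exact pow_ne_zero _ (sub_ne_zero.2 hγi)
    · simp [hBd, hγ0]
  rcases Nat.lt_or_ge m 2 with hm | hm
  · obtain rfl : m = 1 := by omega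
    obtain rfl := det_one_fin hT
    refine ⟨1, by simpa using splits_scalar (ι := Fin 1) (one_ne_zero : (1 : F) ≠ 0), det_one, ?_, ?_⟩
    · simp [det_fin_one, sub_eq_zero, Ne.symm hγ1]
    · simp [det_fin_one, sub_eq_zero, Ne.symm hγi1]
  · refine ⟨jord F m, splits_jord hK hγ0 hγ1 hm T hT (hTns hm), jord_det m, ?_, ?_⟩ <;>
    · rw [det_of_isLowerTriangular]
      · refine Finset.prod_ne_zero_iff.2 fun i _ => ?_
        simp [jord, Cfsg.Agent.Classical.RegularUnipotentConj.shift, sub_eq_zero]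
        first | exact hγ1 | exact hγi1 | exact Ne.symm hγ1 | exact Ne.symm hγi1
      · intro i j hij
        have h : i.val < j.val := hij
        simp [jord, Cfsg.Agent.Classical.RegularUnipotentConj.shift, show i ≠ j from ne_of_lt hij,
          show ¬ (j.val + 1 = i.val) by omega]

end Cfsg.Agent.Classical.Thompson
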