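import Cfsg.Agent.Lib.Classical.Thompson.Hess

/-!
# Scalar matrices of determinant one are commutators
-/

set_option autoImplicit false

namespace Cfsg.Agent.Classical.Thompson

open Matrix Polynomial
open scoped Kronecker

variable {F : Type*} [Field F]

theorem isComm_kron {ι κ : Type*} [Fintype ι] [DecidableEq ι] [Fintype κ] [DecidableEq κ] {x y : F}
    (h : IsComm (x • (1 : Matrix ι ι F))) (h' : IsComm (y • (1 : Matrix κ κ F))) :
    IsComm ((x * y) • (1 : Matrix (ι × κ) (ι × κ) F)) := by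
  obtain ⟨a, b, ha, hb, hab⟩ := h
  obtain ⟨a', b', ha', hb', hab'⟩ := h'
  refine ⟨a ⊗ₖ a', b ⊗ₖ b', by rw [det_kronecker, ha, ha', one_pow, one_pow, one_mul],
    by rw [det_kronecker, hb, hb', one_pow, one_pow, one_mul], ?_⟩
  rw [← mul_kronecker_mul, ← mul_kronecker_mul, ← hab, ← hab']
  simp [smul_kronecker, kronecker_smul, smul_smul, mul_comm]

theorem isComm_one {ι : Type*} [Fintype ι] [DecidableEq ι] : IsComm ((1 : F) • (1 : Matrix ι ι F)) :=
  ⟨1, 1, det_one, det_one, by simp⟩

/-- cyclic monomial matrix -/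
def cyc (F : Type*) [Field F] (d : ℕ) (c : F) : Matrix (Fin d) (Fin d) F :=
  Matrix.of fun i j => if j.val + 1 = i.val then 1 else if i.val = 0 ∧ j.val + 1 = d then c else 0

theorem det_add_cyc {d : ℕ} (hd : 2 ≤ d) (α c : F) :
    (α • 1 + cyc F d c).det = α ^ d - (-1) ^ d * c := by
  set A : Matrix (Fin d) (Fin d) F := α • 1 + cyc F d c
  have hh : IsHess A := fun i j => ⟨fun h => by
      simp [A, cyc, Matrix.one_apply, show i ≠ j from fun e => by subst e; omega,
        show ¬ j.val + 1 = i.val by omega, show ¬ (i.val = 0) by omega],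
    fun h => by simp [A, cyc, Matrix.one_apply, show i ≠ j from fun e => by subst e; omega, h]⟩
  have hE : ∀ n, n ≤ d → hessPoly A n = if n < d then (X - C α) ^ n else (X - C α) ^ d - C c := by
    intro n
    induction n using Nat.strong_induction_on with
    | _ n ih =>
      intro hn
      cases n with
      | zero => rw [hessPoly_zero, if_pos (by omega), pow_zero]
      | succ m =>
        have key : ∀ i : Fin d, (if i.val ≤ m then C (A i ⟨m, by omega⟩) * hessPoly A i.val else 0) =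
            (if i = (⟨m, by omega⟩ : Fin d) then C α * (X - C α) ^ m else 0) +
            (if i = (⟨0, by omega⟩ : Fin d) then (if m + 1 = d then C c else 0) else 0) := by
          intro i
          rcases eq_or_ne i ⟨m, by omega⟩ with rfl | hi
          · rw [if_pos le_rfl, if_pos rfl, ih _ (by simp) (by simp; omega), if_pos (by simp; omega)]
            simp only [A, cyc, Matrix.add_apply, Matrix.smul_apply, Matrix.one_apply_eq, Matrix.of_apply,
              smul_eq_mul, mul_one, Fin.mk.injEq]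
            by_cases hm : m = 0
            · subst hm; simp [show ¬ (1 = d) by omega]
            · simp [hm]
          · rw [if_neg hi, zero_add]
            have hiv : i.val ≠ m := fun e => hi (Fin.ext e)
            by_cases him : i.val ≤ m
            · rw [if_pos him]
              by_cases h0 : i.val = 0
              · rw [if_pos (Fin.ext h0)]
                simp only [A, cyc, Matrix.add_apply, Matrix.smul_apply, Matrix.one_apply_ne hi,
                  Matrix.of_apply, smul_zero, zero_add, h0, hessPoly_zero, mul_one]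
                rw [if_neg (by omega)]
                by_cases hmd : m + 1 = d <;> simp [hmd]
              · rw [if_neg (fun e => h0 (congrArg Fin.val e))]
                simp [A, cyc, Matrix.one_apply_ne hi, h0, show ¬ m + 1 = i.val by omega]
            · rw [if_neg him, if_neg (fun e => by subst e; simp at him)]
        rw [hessPoly_succ A m (by omega), Finset.sum_congr rfl fun i _ => key i, Finset.sum_add_distrib,
          Finset.sum_ite_eq' Finset.univ (⟨m, by omega⟩ : Fin d),
          Finset.sum_ite_eq' Finset.univ (⟨0, by omega⟩ : Fin d), ih m (by omega) (by omega),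
          if_pos (show m < d by omega)]
        simp only [Finset.mem_univ, if_true]
        by_cases hmd : m + 1 = d
        · rw [if_pos hmd, if_neg (by omega), ← hmd]; ring
        · rw [if_neg hmd, if_pos (by omega)]; ring
  rw [hess_det hh, hE d le_rfl, if_neg (lt_irrefl _)]
  simp [coeff_zero_eq_eval_zero]
  rw [mul_sub, ← mul_pow, neg_one_mul, neg_neg]

theorem isComm_of_cyc {d : ℕ} (hd : 2 ≤ d) {ζ : F} (hζ : ζ ^ d = 1)
    (hfix : ∀ ε : F, ε ^ 2 = 1 → ε = ζ ^ (∑ i : Fin d, i.val) →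
      ∃ z : Matrix (Fin d) (Fin d) F, z.det = ε ∧ z * cyc F d ((-1) ^ (d + 1)) = cyc F d ((-1) ^ (d + 1)) * z) :
    IsComm (ζ • (1 : Matrix (Fin d) (Fin d) F)) := by
  set c : F := (-1) ^ (d + 1)
  set b := cyc F d c
  have hb : b.det = 1 := by
    have h := det_add_cyc hd 0 c
    rw [zero_smul, zero_add, zero_pow (by omega), zero_sub] at h
    rw [h, show -((-1 : F) ^ d * c) = (-1) ^ (d + (d + 1) + 1) by rw [pow_succ, pow_add]; ring,
      show d + (d + 1) + 1 = 2 * (d + 1) by ring, pow_mul]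
    simp
  let a : Matrix (Fin d) (Fin d) F := diagonal fun i => ζ ^ i.val
  have hab : ζ • (b * a) = a * b := by
    ext i j
    rw [Matrix.smul_apply, smul_eq_mul]
    simp only [a, Matrix.mul_diagonal, Matrix.diagonal_mul, b, cyc, Matrix.of_apply]
    split_ifs with h1 h2
    · rw [← h1, pow_succ]; ring
    · rw [h2.1, pow_zero]
      have : ζ * ζ ^ j.val = 1 := by rw [← pow_succ', h2.2, hζ]
      linear_combination c * this
    · ring
  set ε := ζ ^ (∑ i : Fin d, i.val)
  have ha : a.det = ε := by rw [det_diagonal]; exact Finset.prod_pow_eq_pow_sum _ _ _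
  have hε : ε ^ 2 = 1 := by
    rw [← pow_mul, Fin.sum_univ_eq_sum_range (fun i => i) d, Finset.sum_range_id_mul_two, pow_mul, hζ, one_pow]
  obtain ⟨z, hz, hzb⟩ := hfix ε hε rfl
  refine ⟨a * z, b, by rw [det_mul, ha, hz, ← pow_two, hε], hb, ?_⟩
  rw [Matrix.smul_mul, Matrix.one_mul, ← Matrix.mul_assoc, ← Matrix.smul_mul, hab, Matrix.mul_assoc,
    Matrix.mul_assoc, hzb]

theorem isComm_odd {d : ℕ} (hd : Odd d) {ζ : F} (hζ : ζ ^ d = 1) :
    IsComm (ζ • (1 : Matrix (Fin d) (Fin d) F)) := by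
  rcases Nat.lt_or_ge d 2 with h | h
  · obtain rfl : d = 1 := by obtain ⟨j, rfl⟩ := hd; omega
    rw [pow_one] at hζ
    rw [hζ]; exact isComm_one
  refine isComm_of_cyc h hζ fun ε _ hε => ⟨1, ?_, by simp⟩
  rw [det_one, hε]
  obtain ⟨j, rfl⟩ := hd
  obtain ⟨t, ht⟩ : (2 * j + 1) ∣ ∑ i : Fin (2 * j + 1), i.val := by
    rw [Fin.sum_univ_eq_sum_range (fun i => i), Finset.sum_range_id,
      show (2 * j + 1) * (2 * j + 1 - 1) / 2 = (2 * j + 1) * j by
        rw [Nat.add_sub_cancel, ← mul_assoc, mul_comm (2 * j + 1) 2, mul_assoc, Nat.mul_div_cancel_left _ two_pos]]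
    exact dvd_mul_right _ _
  rw [ht, pow_mul, hζ, one_pow]

theorem isComm_two_pow [Finite F] (s : ℕ) {ζ : F} (hζ : IsPrimitiveRoot ζ (2 ^ s)) :
    IsComm (ζ • (1 : Matrix (Fin (2 ^ s)) (Fin (2 ^ s)) F)) := by
  classical
  haveI := Fintype.ofFinite F
  rcases Nat.eq_zero_or_pos s with rfl | hs
  · obtain rfl : ζ = 1 := by simpa using hζ.pow_eq_one
    exact isComm_one
  set d := 2 ^ s with hd_def
  have hd : 2 ≤ d := by rw [hd_def]; exact le_self_pow₀ (by norm_num) (by omega) |>.trans' le_rfl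
  have hc : ((-1 : F) ^ (d + 1)) = -1 := by
    rw [pow_succ, Even.neg_one_pow (Nat.even_pow.2 ⟨even_two, by omega⟩), one_mul]
  refine isComm_of_cyc hd hζ.pow_eq_one fun ε hε _ => ?_
  rcases sq_eq_one_iff.1 hε with rfl | rfl
  · exact ⟨1, det_one, by simp⟩
  by_cases hpow : ∃ t : F, t ^ d = -1
  · obtain ⟨t, ht⟩ := hpow
    exact ⟨t • 1, by simp [ht], by simp⟩
  push Not at hpow
  by_cases h2 : (-1 : F) = 1
  · exact ⟨1, by rw [det_one, h2], by simp⟩
  have hdN : Even d := Nat.even_pow.2 ⟨even_two, by omega⟩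
  have hsum : ∃ x y : F, x ^ d + y ^ d ≠ 0 ∧ ∀ t : F, t ^ d ≠ x ^ d + y ^ d := by
    by_contra hall
    push Not at hall
    have hclosed : ∀ k : ℕ, ∃ t : F, t ^ d = (k : F) := by
      intro k
      induction k with
      | zero => exact ⟨0, by rw [zero_pow (by omega), Nat.cast_zero]⟩
      | succ k ih =>
        obtain ⟨t, ht⟩ := ih
        by_cases h0 : t ^ d + 1 ^ d = 0
        · exact ⟨0, by rw [zero_pow (by omega), Nat.cast_succ, ← ht]; simpa using h0.symm⟩
        · obtain ⟨u, hu⟩ := hall t 1 h0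
          exact ⟨u, by rw [hu, Nat.cast_succ, ← ht, one_pow]⟩
    obtain ⟨t, ht⟩ := hclosed (ringChar F - 1)
    refine hpow t ?_
    rw [ht, Nat.cast_sub (CharP.char_is_prime F (ringChar F)).one_le, ringChar.Nat.cast_ringChar, Nat.cast_one, zero_sub]
  obtain ⟨x, y, hxy, hno⟩ := hsum
  set v := x ^ d + y ^ d
  obtain ⟨M, hM⟩ : d ∣ Fintype.card F - 1 := hζ.eq_orderOf ▸ orderOf_dvd_of_pow_eq_one
    (FiniteField.pow_card_sub_one_eq_one ζ (hζ.ne_zero (by omega)))
  have hMo : Odd M := by
    rcases Nat.even_or_odd M with ⟨l, hl⟩ | h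
    · exfalso
      obtain ⟨g, hg⟩ := IsCyclic.exists_ofOrder_eq_natCard (α := Fˣ)
      rw [Nat.card_eq_fintype_card, Fintype.card_units, hM, hl] at hg
      have hpos : 0 < l * d := by
        have := Fintype.one_lt_card (α := F)
        rcases Nat.eq_zero_or_pos (l * d) with h0 | h0
        · rw [hl, mul_add, mul_comm d l, h0] at hM; omega
        · exact h0
      have h1 : ((g : F) ^ (l * d)) ^ 2 = 1 := by
        rw [← pow_mul, show l * d * 2 = d * (l + l) by ring, ← hg, ← Units.val_pow_eq_pow_val,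
          pow_orderOf_eq_one, Units.val_one]
      have h2' : (g : F) ^ (l * d) ≠ 1 := fun h => by
        have hdvd := orderOf_dvd_of_pow_eq_one (show g ^ (l * d) = 1 from Units.ext (by simpa using h))
        rw [hg] at hdvd
        have := Nat.le_of_dvd hpos hdvd
        rw [show d * (l + l) = l * d + l * d by ring] at this
        omega
      exact hpow ((g : F) ^ l) (by rw [← pow_mul]; exact (sq_eq_one_iff.1 h1).resolve_left h2')
    · exact h
  have hvM : v ^ M ≠ 1 := by
    intro h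
    obtain ⟨t, ht⟩ := Nat.ModEq.pow_totient ((Nat.coprime_two_left.2 hMo).pow_left s).symm |>.symm
      |> (Nat.modEq_iff_dvd' (Nat.one_le_pow _ _ hMo.pos)).1
    have h1 : M ^ (2 ^ s).totient = d * t + 1 := by
      have := Nat.one_le_pow (2 ^ s).totient M hMo.pos
      rw [hd_def]; omega
    refine hno (v⁻¹ ^ t) ?_
    have h2 : v ^ (M ^ (2 ^ s).totient) = 1 := by
      obtain ⟨j, hj⟩ : ∃ j, (2 ^ s).totient = j + 1 :=
        ⟨_, (Nat.succ_pred_eq_of_pos (Nat.totient_pos.2 (by positivity))).symm⟩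
      rw [hj, pow_succ', pow_mul, h, one_pow]
    rw [h1, pow_succ, pow_mul] at h2
    rw [← pow_mul, mul_comm, pow_mul, inv_pow, inv_pow]
    exact inv_eq_of_mul_eq_one_right h2
  have hdown : ∀ k : ℕ, ∀ w : F, w ^ (2 ^ k) = 1 → w ≠ 1 → ∃ i : ℕ, w ^ (2 ^ i) = -1 := by
    intro k
    induction k with
    | zero => intro w h h1; exact absurd (by simpa using h) h1
    | succ k ih =>
      intro w h h1
      by_cases hw : w ^ 2 = 1
      · exact ⟨0, by simpa using (sq_eq_one_iff.1 hw).resolve_left h1⟩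
      · obtain ⟨i, hi⟩ := ih (w ^ 2) (by rwa [← pow_mul, ← pow_succ']) hw
        exact ⟨i + 1, by rwa [pow_succ', pow_mul]⟩
  obtain ⟨i, hi⟩ := hdown s (v ^ M) (by
    rw [← pow_mul, mul_comm, ← hd_def, ← hM, FiniteField.pow_card_sub_one_eq_one v hxy]) hvM
  let Z : Matrix (Fin d) (Fin d) F := x • 1 + y • cyc F d ((-1) ^ (d + 1))
  have hZ : Z.det = v := by
    rcases eq_or_ne y 0 with rfl | hy
    · simp [Z, v, zero_pow (show d ≠ 0 by omega)]
    · rw [show Z = y • ((x / y) • 1 + cyc F d ((-1) ^ (d + 1))) by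
        simp [Z, smul_add, smul_smul, mul_div_cancel₀ _ hy], det_smul, Fintype.card_fin, det_add_cyc hd, hc,
        hdN.neg_one_pow, div_pow]
      field_simp
      ring
  refine ⟨Z ^ (M * 2 ^ i), by rw [det_pow, hZ, pow_mul, hi], ?_⟩
  refine Commute.pow_left ?_ _
  exact (Commute.smul_left (Commute.one_left _) x).add_left (Commute.smul_left (Commute.refl _) y)

theorem isComm_scalar [Finite F] {n : ℕ} (hn : 1 ≤ n) {ζ : F} (hζ : ζ ^ n = 1) :
    IsComm (ζ • (1 : Matrix (Fin n) (Fin n) F)) := by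
  set d := orderOf ζ with hd
  have hfin : IsOfFinOrder ζ := isOfFinOrder_iff_pow_eq_one.2 ⟨n, hn, hζ⟩
  have hd0 : d ≠ 0 := (orderOf_pos_iff.2 hfin).ne'
  obtain ⟨m, hm⟩ := orderOf_dvd_of_pow_eq_one hζ
  obtain ⟨s, o, ho, hso⟩ := Nat.exists_eq_two_pow_mul_odd hd0
  have hcop : Nat.Coprime (2 ^ s) o := (Nat.coprime_two_left.2 ho).pow_left s
  have hd1 : ζ ^ (2 ^ s * o) = 1 := by rw [← hso]; exact pow_orderOf_eq_one ζ
  have hp : IsPrimitiveRoot (ζ ^ o) (2 ^ s) := by
    refine (IsPrimitiveRoot.orderOf ζ).pow (Nat.pos_of_ne_zero hd0) ?_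
    rw [hso, mul_comm]
  obtain ⟨j, hj⟩ : ∃ j, (2 ^ s).totient = j + 1 :=
    ⟨_, (Nat.succ_pred_eq_of_pos (Nat.totient_pos.2 (by positivity))).symm⟩
  obtain ⟨q, hq⟩ := Nat.ModEq.pow_totient hcop.symm |>.symm
    |> (Nat.modEq_iff_dvd' (Nat.one_le_pow _ _ ho.pos)).1
  have hoa : o * o ^ j = 2 ^ s * q + 1 := by
    have := Nat.one_le_pow (2 ^ s).totient o ho.pos
    rw [← pow_succ', ← hj]; omega
  set ζ1 := (ζ ^ o) ^ (o ^ j) with hζ1
  have hp1 : IsPrimitiveRoot ζ1 (2 ^ s) := hp.pow_of_coprime _ (hcop.symm.pow_left j)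
  have hz1 : ζ1 ≠ 0 := hp1.ne_zero (by positivity)
  have h2 : (ζ * ζ1⁻¹) ^ o = 1 := by
    rw [mul_pow, inv_pow, hζ1, ← pow_mul, ← pow_mul,
      show o * (o ^ j * o) = o + 2 ^ s * o * q by rw [← mul_assoc, hoa]; ring, pow_add, pow_mul ζ (2 ^ s * o), hd1, one_pow,
      mul_one, mul_inv_cancel₀]
    exact pow_ne_zero _ fun h => by rw [h, zero_pow (by omega)] at hζ; exact zero_ne_one hζ
  have h := isComm_kron (isComm_kron (isComm_two_pow s hp1) (isComm_odd ho h2))
    (isComm_one (F := F) (ι := Fin m))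
  rw [mul_one, mul_comm ζ1, mul_assoc, inv_mul_cancel₀ hz1, mul_one] at h
  let e : ((Fin (2 ^ s) × Fin o) × Fin m) ≃ Fin n :=
    Fintype.equivFinOfCardEq (by simp [← hso, hm, hd])
  have h3 := h.reindex e
  simpa [Matrix.submatrix_smul] using h3

end Cfsg.Agent.Classical.Thompson
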