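import Cfsg.Agent.Lib.Classical.Thompson.Bottom

/-!
# Commutators in the special linear group over the fields with two and three elements
-/

set_option autoImplicit false

namespace Cfsg.Agent.Classical.Thompson

open Matrix Polynomial

variable {F : Type*} [Field F]

/-- a class without eigenvalue one along which `S` splits -/
def Top {ι : Type*} [Fintype ι] [DecidableEq ι] (S : Matrix ι ι F) : Prop :=
  ∃ P : Matrix ι ι F, Splits S P ∧ P.det = 1 ∧ (P - 1).det ≠ 0 ∧
    ∀ t : F, t ≠ 0 → ∃ Z : Matrix ι ι F, Z.det = t ∧ Z * P = P * Z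

section
variable {ι κ : Type*} [Fintype ι] [DecidableEq ι] [Fintype κ] [DecidableEq κ]

theorem top_of_witness (hv : ∀ t : F, t ≠ 0 → t = 1 ∨ t = -1) {S : Matrix ι ι F}
    (P P' a a' Z : Matrix ι ι F) (hP : P * P' = 1) (ha : a * a' = 1) (hS : S * (P * a) = a * P)
    (hd : P.det = 1) (hd1 : (P - 1).det ≠ 0) (hZ : Z.det = -1) (hZP : Z * P = P * Z) : Top S := by
  refine ⟨P, ⟨a * P * a', P', P', hP, ⟨a, a', ha, rfl⟩, Sim.refl _, ?_⟩, hd, hd1, fun t ht => ?_⟩
  · calc S = S * (P * (a * a') * P') := by rw [ha, Matrix.mul_one, hP, Matrix.mul_one]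
      _ = S * (P * a) * a' * P' := by simp only [Matrix.mul_assoc]
      _ = a * P * a' * P' := by rw [hS]
  · rcases hv t ht with rfl | rfl
    · exact ⟨1, det_one, by simp⟩
    · exact ⟨Z, hZ, hZP⟩

theorem Top.reindex {S : Matrix ι ι F} (h : Top S) (e : ι ≃ κ) : Top (S.reindex e e) := by
  obtain ⟨P, h1, h2, h3, h4⟩ := h
  refine ⟨P.reindex e e, h1.reindex e, by rw [det_reindex_self, h2], ?_, fun t ht => ?_⟩
  · rw [show P.reindex e e - 1 = (P - 1).reindex e e by
      ext i j; simp [Matrix.one_apply], det_reindex_self]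
    exact h3
  · obtain ⟨Z, hZ, hZP⟩ := h4 t ht
    exact ⟨Z.reindex e e, by rw [det_reindex_self, hZ], by simp [submatrix_mul_equiv, hZP]⟩

theorem Top.fromBlocks {S : Matrix ι ι F} {T : Matrix κ κ F} (h : Top S) (h' : Top T) :
    Top (Matrix.fromBlocks S 0 0 T) := by
  obtain ⟨P, ⟨L, U, P', g1, g2, g3, rfl⟩, h2, h3, h4⟩ := h
  obtain ⟨Q, ⟨M, V, Q', k1, k2, k3, rfl⟩, h2', h3', -⟩ := h'
  refine ⟨.fromBlocks P 0 0 Q, ⟨.fromBlocks L 0 0 M, .fromBlocks U 0 0 V, .fromBlocks P' 0 0 Q',
    by simp [fromBlocks_multiply, g1, k1], g2.fromBlocks k2, g3.fromBlocks k3,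
    by simp [fromBlocks_multiply]⟩, by rw [det_fromBlocks_zero₂₁, h2, h2', one_mul], ?_, fun t ht => ?_⟩
  · rw [← fromBlocks_one, sub_eq_add_neg, fromBlocks_neg, fromBlocks_add]
    simp only [neg_zero, add_zero, det_fromBlocks_zero₂₁, ← sub_eq_add_neg]
    exact mul_ne_zero h3 h3'
  · obtain ⟨Z, hZ, hZP⟩ := h4 t ht
    exact ⟨.fromBlocks Z 0 0 1, by rw [det_fromBlocks_zero₂₁, hZ, det_one, mul_one],
      by simp [fromBlocks_multiply, hZP]⟩

theorem Top.equiv {f : ι → F} (h : Top (diagonal f)) (e : κ ≃ ι) : Top (diagonal (f ∘ e)) := by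
  simpa using h.reindex e.symm

end

/-- the small witnesses -/
structure Seeds (F : Type*) [Field F] : Prop where
  hv : ∀ t : F, t ≠ 0 → t = 1 ∨ t = -1
  two : ∀ c : F, (c = 1 ∨ c = -1) → Top (diagonal (fun _ : Fin 2 => c))
  three : Top (diagonal (fun _ : Fin 3 => (1 : F)))
  three' : Top (diagonal (![1, -1, -1] : Fin 3 → F))
  single : ∃ S : Matrix (Fin 2) (Fin 2) F, S.det = 1 ∧ IsHess S ∧ Top S

theorem top_diagonal (h : Seeds F) : ∀ (n : ℕ) (ι : Type) [Fintype ι] [DecidableEq ι] (f : ι → F),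
    Fintype.card ι = n → 2 ≤ n → (∀ i, f i ≠ 0) → ∏ i, f i = 1 → Top (diagonal f) := by
  intro n
  induction n using Nat.strong_induction_on with
  | _ n ih =>
    intro ι _ _ f hn h2 hf hprod
    have hv := fun i => h.hv (f i) (hf i)
    rcases Nat.lt_or_ge n 4 with hlt | hge
    · let e : ι ≃ Fin n := Fintype.equivFinOfCardEq hn
      have hp' : ∏ i : Fin n, f (e.symm i) = 1 := by rw [e.symm.prod_comp]; exact hprod
      have : Top (diagonal (f ∘ e.symm)) := by
        rcases (show n = 2 ∨ n = 3 by omega) with rfl | rfl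
        · have h01 : f (e.symm 1) = f (e.symm 0) := by
            rw [Fin.prod_univ_two] at hp'
            rcases hv (e.symm 0) with h0 | h0 <;> rw [h0] at hp' ⊢
            · linear_combination hp'
            · linear_combination -hp'
          have := h.two (f (e.symm 0)) (hv _)
          rwa [show (f ∘ e.symm : Fin 2 → F) = fun _ => f (e.symm 0) by
            funext i; fin_cases i
            · rfl
            · exact h01]
        · by_cases hall : ∀ i, f (e.symm i) = 1
          · rw [show (f ∘ e.symm : Fin 3 → F) = fun _ => 1 from funext hall]; exact h.three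
          push Not at hall
          obtain ⟨i, hi⟩ := hall
          have hneg : (1 : F) ≠ -1 := fun e1 => hi (((hv _)).elim id fun h' => h'.trans e1.symm)
          have key : ∃ s : Fin 3 ≃ Fin 3, (f ∘ e.symm : Fin 3 → F) = ![1, -1, -1] ∘ s := by
            rw [Fin.prod_univ_three] at hp'
            rcases hv (e.symm 0) with a | a <;> rcases hv (e.symm 1) with b | b <;>
              rcases hv (e.symm 2) with c | c <;> rw [a, b, c] at hp' <;>
              first
                | (exfalso; apply hneg; linear_combination hp')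
                | (exfalso; apply hneg; linear_combination -hp')
                | (exfalso; fin_cases i <;> first | exact hi a | exact hi b | exact hi c)
                | (refine ⟨Equiv.refl _, ?_⟩; funext j; fin_cases j <;> simp [a, b, c]; done)
                | (refine ⟨Equiv.swap 0 1, ?_⟩; funext j; fin_cases j <;> simp [a, b, c, Equiv.swap_apply_def]; done)
                | (refine ⟨Equiv.swap 0 2, ?_⟩; funext j; fin_cases j <;> simp [a, b, c, Equiv.swap_apply_def]; done)
          obtain ⟨s, hs⟩ := key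
          rw [hs]
          exact h.three'.equiv s
      have h5 := this.equiv e
      simpa [Function.comp_assoc] using h5
    · classical
      obtain ⟨i, j, hij, hfij⟩ : ∃ i j, i ≠ j ∧ f i = f j := by
        by_contra hno
        push Not at hno
        have hinj : Function.Injective f := fun a b hab => by
          by_contra hne; exact hno a b hne hab
        have h4 : Fintype.card ι ≤ ({1, -1} : Finset F).card :=
          (Finset.card_image_of_injective Finset.univ hinj).symm.trans_le
            (Finset.card_le_card fun x hx => by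
              obtain ⟨a, -, rfl⟩ := Finset.mem_image.1 hx
              rcases hv a with h' | h' <;> simp [h'])
        have := h4.trans Finset.card_le_two
        omega
      let e : {x // x = i ∨ x = j} ⊕ {x // ¬ (x = i ∨ x = j)} ≃ ι := Equiv.sumCompl _
      have hc : Fintype.card {x // x = i ∨ x = j} = 2 := by
        rw [Fintype.card_subtype, show Finset.univ.filter (fun x => x = i ∨ x = j) = {i, j} by
          ext x; simp, Finset.card_pair hij]
      have hc2 : Fintype.card {x // ¬ (x = i ∨ x = j)} = n - 2 := by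
        rw [Fintype.card_subtype_compl, hc, hn]
      have hp1 : ∀ x : {x // x = i ∨ x = j}, f x.val = f i := fun x => by
        rcases x.2 with h' | h' <;> rw [h']; exact hfij.symm
      have hsq : f i * f i = 1 := by rcases hv i with h' | h' <;> rw [h'] <;> ring
      have hp2 : ∏ x : {x // ¬ (x = i ∨ x = j)}, f x.val = 1 := by
        have hsplit := (e.prod_comp f).trans hprod
        rw [Fintype.prod_sum_type, Finset.prod_congr rfl (fun x _ => show f (e (Sum.inl x)) = f i from hp1 x),
          Finset.prod_const, Finset.card_univ, hc, pow_two, hsq, one_mul] at hsplit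
        exact hsplit
      let e2 : {x // x = i ∨ x = j} ≃ Fin 2 := Fintype.equivFinOfCardEq hc
      have t1 : Top (diagonal fun x : {x // x = i ∨ x = j} => f x.val) := by
        rw [show (fun x : {x // x = i ∨ x = j} => f x.val) = (fun _ => f i) ∘ e2 from funext hp1]
        exact (h.two (f i) (hv i)).equiv e2
      have t2 := ih (n - 2) (by omega) _ (fun x : {x // ¬ (x = i ∨ x = j)} => f x.val) hc2 (by omega)
        (fun x => hf _) hp2
      have t3 := (t1.fromBlocks t2)
      rw [fromBlocks_diagonal] at t3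
      have t4 := t3.equiv e.symm
      rwa [show Sum.elim (fun x : {x // x = i ∨ x = j} => f x.val) (fun x => f x.val) ∘ e.symm = f from
        funext fun x => by
          obtain ⟨z, rfl⟩ := e.surjective x
          rcases z with z | z <;> simp [e]] at t4

theorem det_blockDiag' {r : ℕ} {k : Fin r → ℕ} (M : ∀ i, Matrix (Fin (k i)) (Fin (k i)) F) :
    (blockDiagonal' M).det = ∏ i, (M i).det := by
  rw [(blockTriangular_blockDiagonal' M).det_fintype]
  refine Finset.prod_congr rfl fun i _ => ?_
  rw [← det_submatrix_equiv_self (Equiv.sigmaSubtype (β := fun i => Fin (k i)) i).symm]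
  congr 1
  ext a b
  exact blockDiagonal'_apply_eq M i a b

theorem isComm_cyclic [Finite F] (h : Seeds F) {k : ℕ} (hk : 3 ≤ k) (f : F[X]) (hf : f.Monic)
    (hd : f.natDegree = k) (hdet : (compMat f hf hd).det = 1) : IsComm (compMat f hf hd) := by
  obtain ⟨m, rfl⟩ : ∃ m, k = 2 + m := ⟨k - 2, by omega⟩
  obtain ⟨S, hSd, hSh, P, hP, hPd, hP1, hZ⟩ := h.single
  obtain ⟨R, hR⟩ := exists_block S (.inr ⟨rfl, by omega⟩) hSh f hf hd (hdet.trans hSd.symm)
  refine IsComm.sim (IsComm.reindex ?_ finSumFinEquiv) hR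
  have := splits_block (m := m) hP hP1 (Equiv.refl (Fin 2)) R
  simp only [Equiv.coe_refl, submatrix_id_id] at this
  exact isComm_of_splits this (good_fromBlocks (by rw [hPd, jord_det, one_mul]) hZ)

theorem isComm_sum [Finite F] (h : Seeds F) {r : ℕ} (hr : 2 ≤ r) (k : Fin r → ℕ) (hk : ∀ i, 1 ≤ k i)
    (f : Fin r → F[X]) (hf : ∀ i, (f i).Monic) (hd : ∀ i, (f i).natDegree = k i)
    (hdet : ∏ i, (compMat (f i) (hf i) (hd i)).det = 1) :
    IsComm (blockDiagonal' fun i => compMat (f i) (hf i) (hd i)) := by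
  classical
  obtain ⟨m, rfl⟩ : ∃ m : Fin r → ℕ, k = fun i => 1 + m i :=
    ⟨fun i => k i - 1, funext fun i => by have := hk i; show k i = 1 + (k i - 1); omega⟩
  let l : Fin r → F := fun i => (compMat (f i) (hf i) (hd i)).det
  have hb : ∀ i, ∃ R : Matrix (Fin 1) (Fin (m i)) F, Sim (compMat (f i) (hf i) (hd i))
      ((fromBlocks (l i • (1 : Matrix (Fin 1) (Fin 1) F)) ((l i • (1 : Matrix (Fin 1) (Fin 1) F)) * R)
        (link F 1 (m i)) (link F 1 (m i) * R + tri F (m i))).reindex finSumFinEquiv finSumFinEquiv) := fun i => by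
    refine exists_block (l i • (1 : Matrix (Fin 1) (Fin 1) F)) (.inl rfl) ?_ (f i) (hf i) (hd i) ?_
    · intro a b; constructor <;> intro h' <;> · exfalso; omega
    · simp [l]
  choose R hR using hb
  choose P Q hPQ hM using hR
  let ψ : (Fin r ⊕ Σ i, Fin (m i)) ≃ Σ i, Fin (1 + m i) :=
    { toFun := Sum.elim (fun i => ⟨i, Fin.castAdd (m i) 0⟩) fun x => ⟨x.1, Fin.natAdd 1 x.2⟩
      invFun := fun x => Sum.elim (fun _ => Sum.inl x.1) (fun a => Sum.inr ⟨x.1, a⟩) (finSumFinEquiv.symm x.2)
      left_inv := by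
        rintro (i | ⟨i, a⟩)
        · change Sum.elim (fun _ => Sum.inl i) _ (finSumFinEquiv.symm (Fin.castAdd (m i) (0 : Fin 1))) = _
          erw [finSumFinEquiv_symm_apply_castAdd]
          rfl
        · change Sum.elim (fun _ => Sum.inl i) _ (finSumFinEquiv.symm (Fin.natAdd 1 a)) = _
          erw [finSumFinEquiv_symm_apply_natAdd]
          rfl
      right_inv := by
        rintro ⟨i, a⟩
        obtain ⟨z, rfl⟩ := finSumFinEquiv.surjective a
        rcases z with z | z
        · simp [Subsingleton.elim z 0]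
        · simp }
  let Rg : Matrix (Fin r) (Σ i, Fin (m i)) F := Matrix.of fun i x => if i = x.1 then R x.1 0 x.2 else 0
  let Cg : Matrix (Σ i, Fin (m i)) (Fin r) F := Matrix.of fun x i => if x.1 = i then link F 1 (m x.1) x.2 0 else 0
  let Sg : Matrix (Σ i, Fin (m i)) (Σ i, Fin (m i)) F := blockDiagonal' fun i => tri F (m i)
  let Jg : Matrix (Σ i, Fin (m i)) (Σ i, Fin (m i)) F := blockDiagonal' fun i => jord F (m i)
  obtain ⟨P0, hP0, hP0d, hP01, hZ⟩ :=
    top_diagonal h r (Fin r) l (Fintype.card_fin r) hr (fun i h0 => by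
      have : ∏ i, l i = 0 := Finset.prod_eq_zero (Finset.mem_univ i) h0
      rw [hdet] at this; exact one_ne_zero this) hdet
  have hS : Splits Sg Jg := by
    choose L U B' g1 g2 g3 g4 using fun i => tri_splits (F := F) (m i)
    choose A1 B1 e1 e1' using g2
    choose A2 B2 e2 e2' using g3
    exact ⟨blockDiagonal' L, blockDiagonal' U, blockDiagonal' B',
      by rw [← blockDiagonal'_mul]; simp only [g1]; exact blockDiagonal'_one,
      ⟨blockDiagonal' A1, blockDiagonal' B1, by rw [← blockDiagonal'_mul]; simp only [e1]; exact blockDiagonal'_one,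
        by rw [← blockDiagonal'_mul, ← blockDiagonal'_mul]; exact congrArg _ (funext e1')⟩,
      ⟨blockDiagonal' A2, blockDiagonal' B2, by rw [← blockDiagonal'_mul]; simp only [e2]; exact blockDiagonal'_one,
        by rw [← blockDiagonal'_mul, ← blockDiagonal'_mul]; exact congrArg _ (funext e2')⟩,
      by rw [← blockDiagonal'_mul]; exact congrArg blockDiagonal' (funext g4)⟩
  have hnil : (Jg - 1) ^ (∑ i, m i) = 0 := by
    rw [show Jg - 1 = blockDiagonal' fun i => jord F (m i) - 1 from by
      rw [← blockDiagonal'_one, ← blockDiagonal'_sub]; rfl, ← blockDiagonal'_pow]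
    rw [show (fun i => (jord F (m i) - 1)) ^ (∑ i, m i) = 0 from funext fun i => by
      simp only [Pi.pow_apply, Pi.zero_apply]
      exact pow_eq_zero_of_le (Finset.single_le_sum (fun j _ => Nat.zero_le (m j)) (Finset.mem_univ i)) (jord_nil _)]
    exact blockDiagonal'_zero
  have hJd : Jg.det = 1 := by
    rw [det_blockDiag']; exact Finset.prod_eq_one fun i _ => jord_det _
  have main := isComm_of_splits (Splits.blocks hP0 hS (disj_unipotent hP01 hnil) Rg Cg)
    (good_fromBlocks (by rw [hP0d, hJd, one_mul]) hZ)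
  refine IsComm.sim (main.reindex ψ) ?_
  have hK : (fromBlocks (diagonal l) (diagonal l * Rg) Cg (Cg * Rg + Sg)).reindex ψ ψ =
      blockDiagonal' fun i => (fromBlocks (l i • (1 : Matrix (Fin 1) (Fin 1) F))
        ((l i • (1 : Matrix (Fin 1) (Fin 1) F)) * R i) (link F 1 (m i))
        (link F 1 (m i) * R i + tri F (m i))).reindex finSumFinEquiv finSumFinEquiv := by
    ext x y
    obtain ⟨x, rfl⟩ := ψ.surjective x
    obtain ⟨y, rfl⟩ := ψ.surjective y
    rw [Matrix.reindex_apply, Matrix.submatrix_apply, Equiv.symm_apply_apply, Equiv.symm_apply_apply]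
    rcases x with i | ⟨i, a⟩ <;> rcases y with j | ⟨j, b⟩ <;>
      simp only [ψ, Equiv.coe_fn_mk, Sum.elim_inl, Sum.elim_inr] <;>
      rcases eq_or_ne i j with rfl | hij
    all_goals first
      | (simp [Rg, Cg, Sg, diagonal_mul, Matrix.mul_apply]; done)
      | (rw [blockDiagonal'_apply_ne _ _ _ hij]; simp [Rg, Cg, Sg, diagonal_mul, Matrix.mul_apply, hij]; done)
      | (simp [Rg, Cg, Sg, diagonal_mul, Matrix.mul_apply, blockDiagonal'_apply_ne, hij]; done)
  rw [hK]
  exact ⟨blockDiagonal' P, blockDiagonal' Q,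
    by rw [← blockDiagonal'_mul]; simp only [hPQ]; exact blockDiagonal'_one,
    by rw [← blockDiagonal'_mul, ← blockDiagonal'_mul]; exact congrArg _ (funext hM)⟩

theorem isComm_small [Finite F] (h : Seeds F) {n : ℕ} (hn : 3 ≤ n) (A : Matrix (Fin n) (Fin n) F)
    (hA : A.det = 1) : IsComm A := by
  obtain ⟨r, k, f, hf, hd, e, hk, hs⟩ := exists_cyclic A
  refine IsComm.sim (IsComm.reindex ?_ e) hs
  have hdet : ∏ i, (compMat (f i) (hf i) (hd i)).det = 1 := by
    rw [← det_blockDiag', ← det_reindex_self e, ← hs.det_eq, hA]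
  have hcard : ∑ i, k i = n := by simpa using Fintype.card_congr e
  rcases Nat.lt_or_ge r 2 with hr | hr
  · obtain rfl : r = 1 := by
      rcases Nat.eq_zero_or_pos r with rfl | hpos
      · simp at hcard; omega
      · omega
    rw [Fin.prod_univ_one] at hdet
    rw [Fin.sum_univ_one] at hcard
    have h1 := isComm_cyclic h (by omega : 3 ≤ k 0) (f 0) (hf 0) (hd 0) hdet
    let σ : Fin (k 0) ≃ Σ i : Fin 1, Fin (k i) :=
      (Equiv.uniqueSigma fun i : Fin 1 => Fin (k i)).symm
    convert h1.reindex σ using 1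
    ext x y
    obtain ⟨x, rfl⟩ := σ.surjective x
    obtain ⟨y, rfl⟩ := σ.surjective y
    rw [Matrix.reindex_apply, Matrix.submatrix_apply, Equiv.symm_apply_apply, Equiv.symm_apply_apply]
    exact blockDiagonal'_apply_eq (fun i : Fin 1 => compMat (f i) (hf i) (hd i)) 0 x y
  · exact isComm_sum h hr k hk f hf hd hdet

theorem seeds_two : Seeds (ZMod 2) := by
  have hv : ∀ t : ZMod 2, t ≠ 0 → t = 1 ∨ t = -1 := by decide
  refine ⟨hv, fun c hc => ?_, ?_, ?_, ⟨!![0, 1; 1, 1], by decide, ?_, ?_⟩⟩
  · obtain rfl : c = 1 := by rcases hc with h | h <;> rw [h]; decide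
    exact top_of_witness hv !![0, 1; 1, 1] !![1, 1; 1, 0] !![0, 1; 1, 1] !![1, 1; 1, 0] !![0, 1; 1, 1]
      (by decide) (by decide) (by decide) (by decide) (by decide) (by decide) (by decide)
  · exact top_of_witness hv !![0, 0, 1; 0, 1, 1; 1, 1, 0] !![1, 1, 1; 1, 1, 0; 1, 0, 0]
      !![0, 0, 1; 0, 1, 1; 1, 1, 0] !![1, 1, 1; 1, 1, 0; 1, 0, 0] !![0, 0, 1; 0, 1, 1; 1, 1, 0]
      (by decide) (by decide) (by decide) (by decide) (by decide) (by decide) (by decide)
  · exact top_of_witness hv !![0, 0, 1; 0, 1, 1; 1, 1, 0] !![1, 1, 1; 1, 1, 0; 1, 0, 0]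
      !![0, 0, 1; 0, 1, 1; 1, 1, 0] !![1, 1, 1; 1, 1, 0; 1, 0, 0] !![0, 0, 1; 0, 1, 1; 1, 1, 0]
      (by decide) (by decide) (by decide) (by decide) (by decide) (by decide) (by decide)
  · intro i j; fin_cases i <;> fin_cases j <;> simp
  · exact top_of_witness hv !![0, 1; 1, 1] !![1, 1; 1, 0] !![0, 1; 1, 0] !![0, 1; 1, 0] !![0, 1; 1, 1]
      (by decide) (by decide) (by decide) (by decide) (by decide) (by decide) (by decide)

theorem seeds_three : Seeds (ZMod 3) := by
  have hv : ∀ t : ZMod 3, t ≠ 0 → t = 1 ∨ t = -1 := by decide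
  refine ⟨hv, fun c hc => ?_, ?_, ?_, ⟨!![0, 2; 1, 0], by decide, ?_, ?_⟩⟩
  · rcases hc with rfl | rfl
    · exact top_of_witness hv !![0, 1; 2, 0] !![0, 2; 1, 0] !![0, 1; 2, 0] !![0, 2; 1, 0] !![1, 1; 2, 1]
        (by decide) (by decide) (by decide) (by decide) (by decide) (by decide) (by decide)
    · exact top_of_witness hv !![0, 1; 2, 0] !![0, 2; 1, 0] !![0, 1; 1, 0] !![0, 1; 1, 0] !![1, 1; 2, 1]
        (by decide) (by decide) (by decide) (by decide) (by decide) (by decide) (by decide)
  · exact top_of_witness hv !![0, 0, 1; 0, 1, 1; 2, 1, 0] !![2, 1, 2; 2, 1, 0; 1, 0, 0]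
      !![0, 0, 1; 0, 1, 1; 2, 1, 0] !![2, 1, 2; 2, 1, 0; 1, 0, 0] !![0, 0, 2; 0, 2, 2; 1, 2, 0]
      (by decide) (by decide) (by decide) (by decide) (by decide) (by decide) (by decide)
  · exact top_of_witness hv !![0, 0, 1; 1, 0, 1; 0, 1, 0] !![2, 1, 0; 0, 0, 1; 1, 0, 0]
      !![0, 0, 1; 2, 0, 2; 0, 1, 0] !![2, 2, 0; 0, 0, 1; 1, 0, 0] !![0, 0, 2; 2, 0, 2; 0, 2, 0]
      (by decide) (by decide) (by decide) (by decide) (by decide) (by decide) (by decide)
  · intro i j; fin_cases i <;> fin_cases j <;> simp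
  · exact top_of_witness hv !![1, 1; 1, 2] !![2, 2; 2, 1] !![0, 1; 1, 0] !![0, 1; 1, 0] !![0, 1; 1, 1]
      (by decide) (by decide) (by decide) (by decide) (by decide) (by decide) (by decide)

end Cfsg.Agent.Classical.Thompson
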